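/- Hall-Higman-Shult in general: irreducible configurations. -/
import Cfsg.Agent.Lib.Fl.CRed
import Cfsg.Agent.Lib.Fl.CSp
import Cfsg.Agent.Lib.Fl.CSolv

set_option autoImplicit false
set_option linter.unusedSectionVars false
set_option linter.style.haveILetI false

namespace Cfsg.Agent.Lib.Fl

open Subgroup Cfsg.Agent.Lib.Core Cfsg.Agent.Lib.Glaub Cfsg.Agent.Lib.ZJ Cfsg.Agent.FT
open scoped commutatorElement

/-- `V` is irreducible. -/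
structure Irr {Γ : Type*} [Group Γ] (p r : ℕ) (V B : Subgroup Γ) (ρ : Γ) : Prop extends Lin p r V B ρ where
  irr : ∀ U ≤ V, B ≤ 𝐍(U) → ρ ∈ 𝐍(U) → U = ⊥ ∨ U = V

universe u
variable {Γ : Type u} [Group Γ] [Finite Γ] {p r : ℕ} [hp : Fact p.Prime] [hr : Fact r.Prime]
variable {V B : Subgroup Γ} {ρ : Γ}

theorem Irr.of_zpowers (h : Irr p r V B ρ) {ρ' : Γ} (e : zpowers ρ' = zpowers ρ) :
    Irr p r V B ρ' := by
  have hN : ∀ X : Subgroup Γ, ρ' ∈ 𝐍(X) ↔ ρ ∈ 𝐍(X) := fun X => by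
    rw [← zpowers_le, e, zpowers_le]
  have hC : centralizer {ρ'} = centralizer {ρ} := by
    rw [← centralizer_zpowers, e, centralizer_zpowers]
  refine ⟨⟨⟨h.ab, ?_, (hN _).mpr h.ρV, fun v hv c => h.fix v hv ?_, h.BV, (hN _).mpr h.ρB, h.cop⟩,
    h.faith⟩, fun U a b c => h.irr U a b ((hN _).mp c)⟩
  · obtain ⟨k, hk⟩ := mem_zpowers_iff.mp (e.le (mem_zpowers ρ'))
    rw [← hk, ← zpow_natCast, ← zpow_mul, mul_comm, zpow_mul, zpow_natCast, h.pow, one_zpow]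
  · exact (mem_centralizer_singleton_iff.mp
      (hC ▸ mem_centralizer_singleton_iff.mpr c.symm : v ∈ centralizer {ρ})).symm

theorem Irr.cj (h : Irr p r V B ρ) {b : Γ} (hb : b ∈ B) : Irr p r V B (b * ρ * b⁻¹) := by
  have h1 := h.toLin0.map (MulAut.conj b).toMonoidHom
  rw [map_conj_eq_of_mem hb, map_conj_eq_iff.mpr (h.BV hb)] at h1
  refine ⟨⟨h1, h.faith⟩, fun U a c d => h.irr U a c ?_⟩
  simpa [mul_assoc] using mul_mem (mul_mem (inv_mem (c hb)) d) (c hb)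

theorem Irr.conj (h : Irr p r V B ρ) {b ρ' : Γ} (hb : b ∈ B)
    (e : zpowers ρ' = cj(b, zpowers ρ)) : Irr p r V B ρ' :=
  (h.cj hb).of_zpowers (by rw [e, MonoidHom.map_zpowers]; rfl)

theorem Irr.eq_bot (h : Irr p r V B ρ) {P : Subgroup Γ} (hP : IsPGroup p P) (hPB : P ≤ B)
    (hB : B ≤ 𝐍(P)) (hρ : ρ ∈ 𝐍(P)) : P = ⊥ := by
  by_cases h0 : V = ⊥
  · rw [eq_bot_iff, ← h.faith, h0, cent_bot, inf_top_eq]; exact hPB
  have h1 := (h.irr _ inf_le_left (le_normalizer_inf h.BV (le_normalizer_centralizer hB))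
    (zpowers_le.mp (le_normalizer_inf (zpowers_le.mpr h.ρV)
      (le_normalizer_centralizer (zpowers_le.mpr hρ))))).resolve_left
    (inf_centralizer_ne_bot hP h.toLin0.isPGroup (hPB.trans h.BV) h0)
  rw [eq_bot_iff, ← h.faith]
  exact le_inf hPB (le_centralizer_iff.mp (inf_eq_left.mp h1))

theorem Irr.op (h : Irr p r V B ρ) : OpOf p B = ⊥ :=
  h.eq_bot (OpOf_isPGroup B) (OpOf_le B) (le_normalizer_OpOf le_normalizer)
    (zpowers_le.mp (le_normalizer_OpOf (zpowers_le.mpr h.ρB)))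

theorem Irr.inverts (h : Irr p r V B ρ) {z : Γ} (hz : z ∈ B ⊓ 𝐂(B)) (hρ : ρ * z = z * ρ)
    (h2 : z * z = 1) (h1 : z ≠ 1) : ∀ v ∈ V, z * v * z⁻¹ = v⁻¹ := by
  have hB : B ≤ 𝐂(zpowers z) := le_centralizer_iff.mp (zpowers_le.mpr hz.2)
  have hρ' : zpowers ρ ≤ 𝐂(zpowers z) := by
    rw [centralizer_zpowers, zpowers_le]; exact mem_centralizer_singleton_iff.mpr hρ
  have h3 := (h.irr (V ⊓ 𝐂(zpowers z)) inf_le_left (le_normalizer_inf h.BV
    (le_normalizer_centralizer (le_normalizer_of_le_centralizer hB)))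
    (zpowers_le.mp (le_normalizer_inf (zpowers_le.mpr h.ρV)
      (le_normalizer_centralizer (le_normalizer_of_le_centralizer hρ'))))).resolve_right fun e =>
    h1 (mem_bot.mp (h.faith.le ⟨hz.1, le_centralizer_iff.mp (inf_eq_left.mp e) (mem_zpowers z)⟩))
  intro v hv
  have hw := conj_mem_of_mem_normalizer (h.BV hz.1) hv
  have h4 : v * (z * v * z⁻¹) ∈ V ⊓ 𝐂(zpowers z) := by
    refine mem_inf.mpr ⟨mul_mem hv hw, ?_⟩
    rw [centralizer_zpowers, mem_centralizer_singleton_iff]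
    have e := h.ab.1 hv _ hw
    calc v * (z * v * z⁻¹) * z = v * z * v := by group
      _ = (z * z) * v * z * v := by rw [h2, one_mul]
      _ = z * ((z * v * z⁻¹) * (z * z) * v) := by group
      _ = _ := by rw [h2, mul_one, e]
  rw [h3, mem_bot] at h4
  exact eq_inv_of_mul_eq_one_right h4

theorem Irr.card_eq_two (h : Irr p r V B ρ) {Z : Subgroup Γ} (hZ : Z ≤ B ⊓ 𝐂(B)) (hρ : ρ ∈ 𝐂(Z))
    (h2 : ∀ z ∈ Z, z ^ 2 = 1) (h1 : Z ≠ ⊥) : Nat.card Z = 2 := by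
  haveI := Fact.mk Nat.prime_two
  have key : ∀ z ∈ Z, z ≠ 1 → ∀ v ∈ V, z * v * z⁻¹ = v⁻¹ := fun z hz hz1 v hv => by
    have hn : ∀ g ∈ 𝐍(V), g * z = z * g → g ∈ 𝐍(V ⊓ C1 z) := fun g hg e => by
      rw [← cj_eq_iff, cj_inf, cj_eq_of_mem_norm hg, cj_C1, e, mul_inv_cancel_right]
    refine conj_eq_inv_of_card_two (R := zpowers z)
      (by rw [Nat.card_zpowers, orderOf_eq_prime (h2 z hz) hz1]) h.abelem.1
      (zpowers_le.mpr (h.BV (hZ hz).1)) ?_ (mem_zpowers z) hz1 hv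
    rw [cent_zpowers]
    exact (h.irr _ inf_le_left (fun g hg => hn g (h.BV hg) ((hZ hz).2 g hg))
      (hn ρ h.ρV (hρ z hz).symm)).resolve_right fun e =>
        hz1 (h.faith.le ⟨(hZ hz).1, le_C1_iff.mp (e.ge.trans inf_le_right)⟩)
  obtain ⟨z, hz, hz1⟩ := exists_ne_one h1
  rw [← orderOf_eq_prime (h2 z hz) hz1, ← Nat.card_zpowers]
  refine congrArg (fun X : Subgroup Γ => Nat.card X) (le_antisymm (fun w hw => ?_)
    (zpowers_le.mpr hz))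
  by_cases hw1 : w = 1
  · exact hw1 ▸ one_mem _
  have h3 : w * z = 1 := h.faith.le (mem_inf.mpr ⟨(hZ (mul_mem hw hz)).1, mem_cent_iff.mpr
    fun v hv => calc v * (w * z) = (w * v * w⁻¹)⁻¹ * (w * z) := by rw [key w hw hw1 v hv, inv_inv]
      _ = w * (z * v * z⁻¹) * z := by rw [key z hz hz1 v hv]; group
      _ = w * z * v := by group⟩)
  exact eq_inv_of_mul_eq_one_left h3 ▸ inv_mem (mem_zpowers z)

theorem Irr.z2 (hp2 : p ≠ 2) (h : Irr p r V B ρ) {z : Γ} (hz : z ∈ B ⊓ 𝐂(B)) (h2 : z * z = 1) :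
    ρ * z = z * ρ := h.toLin.z2 hp2 hz h2

theorem Irr.fixz (h : Irr p r V B ρ) {z : Γ} (hz : z ∈ B ⊓ 𝐂(B)) (hρ : ρ * z = z * ρ)
    (h1 : z ≠ 1) : V ⊓ 𝐂(zpowers z) = ⊥ := by
  have n : ∀ {H : Subgroup Γ}, H ≤ 𝐍(V) → H ≤ 𝐂(zpowers z) → H ≤ 𝐍((V ⊓ 𝐂(zpowers z) :
      Subgroup Γ)) := fun a b => le_normalizer_inf a (le_normalizer_of_le b)
  refine (h.irr _ inf_le_left (n h.BV (cent_comm.mp (zpowers_le.mpr hz.2))) (zpowers_le.mp
    (n (zpowers_le.mpr h.ρV) (zpowers_le.mpr ?_)))).resolve_right fun e => h1 ?_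
  · rw [cent_zpowers]; exact mem_C1.mpr hρ
  · exact h.faith.le ⟨hz.1, cent_comm.mp (e.ge.trans inf_le_right) (mem_zpowers z)⟩

theorem Irr.z_eq (hp2 : p ≠ 2) (h : Irr p r V B ρ) {z w : Γ} (hz : z ∈ B ⊓ 𝐂(B))
    (hw : w ∈ B ⊓ 𝐂(B)) (z1 : z ≠ 1) (w1 : w ≠ 1) (z2 : z * z = 1) (w2 : w * w = 1) : z = w := by
  have k : ∀ z ∈ B ⊓ 𝐂(B), z ≠ 1 → z * z = 1 → ∀ v ∈ V, z * v * z⁻¹ = v⁻¹ := fun z hz z1 z2 v hv =>
    conj_eq_inv_of_card_two (by rw [Nat.card_zpowers, orderOf_eq_prime (by rw [sq, z2]) z1])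
      (isComm_iff_le_cent.mpr h.ab.1) (zpowers_le.mpr (h.BV hz.1))
      (h.fixz hz (h.z2 hp2 hz z2) z1) (mem_zpowers z) z1 hv
  have : w⁻¹ * z ∈ B ⊓ 𝐂(V) := mem_inf.mpr ⟨B.mul_mem (B.inv_mem hw.1) hz.1, fun v hv => by
    have e := (k z hz z1 z2 v hv).trans (k w hw w1 w2 v hv).symm
    calc v * (w⁻¹ * z) = w⁻¹ * (w * v * w⁻¹) * z := by group
      _ = w⁻¹ * (z * v * z⁻¹) * z := by rw [e]
      _ = _ := by group⟩
  exact (inv_mul_eq_one.mp (h.faith.le this)).symm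

theorem Irr.isES (hp2 : p ≠ 2) (h : Irr p r V B ρ) {A : Subgroup Γ} (hAB : A ≤ B)
    (hA : IsPGroup 2 A) (he : ⁅A, zpowers ρ⁆ = A) (hne : A ≠ ⊥) (hc : ⁅A, A⁆ ≤ 𝐂(B)) :
    ∃ z ∈ B ⊓ 𝐂(B), PGroup.IsES 2 z A ∧ A ⊓ 𝐂(zpowers ρ) = zpowers z ∧
      Nat.card A = 2 * (r - 1) ^ 2 := by
  have l := h.toLin.mono hAB (he ▸ right_le_norm_comm A _ (mem_zpowers ρ))
  have h2 := (l.special (not_dvd_of_isPGroup_ne hp2.symm hA)).2.1
  rw [he] at h2
  have h3 : Zc A ≤ B ⊓ 𝐂(B) := le_inf (inf_le_left.trans hAB) (h2.ge.trans hc)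
  obtain ⟨z, h4, -, h5, h6⟩ := l.isES hp2 hA he hne fun a ha b hb => h.z_eq hp2 (h3 ha) (h3 hb)
  exact ⟨z, h3 (h4.center.ge (mem_zpowers z)), h4, h5, h6⟩

theorem Irr.ab' (hp2 : p ≠ 2) (h : Irr p r V B ρ) {A U : Subgroup Γ} (hAB : A ≤ B) (hA : IsPGroup 2 A)
    (he : ⁅A, zpowers ρ⁆ = A) (hne : A ≠ ⊥) (hc : ⁅A, A⁆ ≤ 𝐂(B)) (hUB : U ≤ B) (hU : IsPGroup 2 U)
    (hρ : ρ ∈ 𝐍(U)) (hUA : ⁅U, A⁆ ≤ 𝐂(B)) : ⁅U, zpowers ρ⁆ ≤ A := by
  obtain ⟨z, hz, hs, -, hcard⟩ := h.isES hp2 hAB hA he hne hc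
  have hzA : zpowers z ≤ A := hs.zpowers_le
  have hρA : zpowers ρ ≤ 𝐍(A) := he ▸ right_le_norm_comm A _
  have h1 : ⁅U, A⁆ ≤ zpowers z := commutator_le.mpr fun u hu a ha => by
    have hm : ⁅u, a⁆ ∈ B ⊓ 𝐂(B) := ⟨comm_le_of_le hUB hAB (commutator_mem_commutator hu ha),
      hUA (commutator_mem_commutator hu ha)⟩
    have e1 : u * (a * a) = a * a * u :=
      zpowers_le.mpr hz.2 (by rw [← sq]; exact hs.pow a ha) u (hUB hu)
    have e2 : ⁅u, a⁆ * ⁅u, a⁆ = 1 := by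
      have e3 := hm.2 a (hAB ha)
      calc _ = ⁅u, a⁆ * (a * ⁅u, a⁆) * a⁻¹ := by rw [e3]; group
        _ = u * (a * a) * u⁻¹ * (a * a)⁻¹ := by rw [commutatorElement_def]; group
        _ = 1 := by rw [e1]; group
    by_cases e : ⁅u, a⁆ = 1
    · exact e ▸ one_mem _
    · exact h.z_eq hp2 hm hz e hs.ne_one e2 hs.mul_self ▸ mem_zpowers _
  have hW := (coprimeAct_zpowers h.pow hρ fun e => h.cop (e.trans (card_dvd_of_le hUB))
    ).commutator_commutator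
  have hWU : ⁅U, zpowers ρ⁆ ≤ U := comm_le_left (zpowers_le.mpr hρ)
  have hρW := right_le_norm_comm U (zpowers ρ)
  generalize ⁅U, zpowers ρ⁆ = W at hW hWU hρW ⊢
  have h2 : ⁅W, A⁆ ≤ zpowers z := (commutator_mono hWU le_rfl).trans h1
  have hWA : W ≤ 𝐍(A) := le_norm_iff_comm_le_right.mpr (h2.trans hzA)
  have hDB : W ⊔ A ≤ B := sup_le (hWU.trans hUB) hAB
  have hD2 := isPGroup_sup_of_le_normalizer (hU.to_le hWU) hA hWA
  have hρD := le_normalizer_sup hρW hρA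
  have hDR : ⁅W ⊔ A, zpowers ρ⁆ = W ⊔ A := le_antisymm (comm_le_left hρD)
    (sup_le (hW.ge.trans (commutator_mono le_sup_left le_rfl))
      (he.ge.trans (commutator_mono le_sup_right le_rfl)))
  have hDA : ⁅W ⊔ A, A⁆ ≤ zpowers z := commutator_sup_left_le h2
    (commutator_le.mpr hs.comm) (hDB.trans ((cent_comm.mp (zpowers_le.mpr hz.2)).trans
      (cent_le_norm _)))
  have hDN : W ⊔ A ≤ 𝐍(A) := sup_le hWA le_normalizer
  have hAD : A ≤ W ⊔ A := le_sup_right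
  refine le_trans (le_sup_left : W ≤ W ⊔ A) ?_
  generalize W ⊔ A = D at hDB hD2 hρD hDR hDA hDN hAD
  have l := h.toLin.mono hDB (hρD (mem_zpowers ρ))
  have hpD := not_dvd_of_isPGroup_ne hp2.symm hD2
  obtain ⟨-, h3, h4⟩ := l.special hpD
  rw [hDR] at h3 h4
  have hρ1 : ρ ≠ 1 := fun e => hne (le_bot_iff.mp (hAB.trans (h.toLin.eq_bot e).le))
  have key : ∀ y ∈ D, y ≠ 1 → A ⊔ D ⊓ 𝐂(A) = D ∧
      ∀ u ∈ D ⊓ 𝐂(A), ∀ w ∈ D ⊓ 𝐂(A), ⁅u, w⁆ ≠ y := fun y hy hy1 => by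
    obtain ⟨K, N, -, -, -, k1, k2, k3, k4, k5⟩ := fpf_num' (l.prime hρ1) l.abelem l.BV
      (zpowers_le.mpr l.ρV) hρD l.coprime hpD l.inf_cent hDR ((comm_eq_bot_iff'.mpr (by
        rw [h3, Core.centralizer_sup]
        exact le_inf inf_le_right (h4.ge.trans inf_le_right))).le.trans bot_le) hy
      (fun e => hy1 (l.faith.le ⟨hy, e⟩))
    have k6 := k5 z (hAD hs.mem) (h.fixz hz (h.z2 hp2 hz hs.mul_self) hs.ne_one)
    have k7 : N ≤ D ⊓ 𝐂(A) := fun w hw => ⟨k2 hw, fun a ha => by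
      have m1 := (k3 w (k2 hw)).mp hw a (hAD ha)
      have m2 : ⁅a, w⁆ ∈ zpowers z := by
        rw [commutator_comm] at hDA; exact hDA (commutator_mem_commutator ha (k2 hw))
      rcases (PGroup.mem_zpowers_iff_of_orderOf_two hs.ord).mp m2 with e | e
      · exact commutatorElement_eq_one_iff_mul_comm.mp e
      · exact absurd (e ▸ m1) k6⟩
    have c1 := card_mul_relIndex k2
    have c2 := card_sup_mul_card_inf (H := A) (N := D ⊓ 𝐂(A))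
      (le_normalizer_inf (le_normalizer_of_le hAD) (le_normalizer_centralizer le_normalizer))
    rw [← inf_assoc, inf_eq_left.mpr hAD, hs.center, hs.card_zpowers, hcard] at c2
    rw [k4, l.card_eq hρ1] at c1
    have c3 := card_le_of_le k7
    have k8 : A ⊔ D ⊓ 𝐂(A) ≤ D := sup_le hAD inf_le_left
    have c4 := card_le_of_le k8
    have c5 : 0 < (r - 1) ^ 2 := pow_pos (Nat.sub_pos_of_lt hr.out.one_lt) 2
    generalize (r - 1) ^ 2 = t at c1 c2 c5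
    have c6 : Nat.card ↥(D ⊓ 𝐂(A)) ≤ Nat.card N := by nlinarith
    refine ⟨eq_of_le_of_card_ge k8 (by nlinarith), fun u hu w hw e => k1 (e ▸
      (k3 w hw.1).mp ((eq_of_le_of_card_ge k7 c6).ge hw) u hu.1)⟩
  have h5 := (key z (hAD hs.mem) hs.ne_one).1
  have h6 : D ⊓ 𝐂(A) ≤ 𝐂((D ⊓ 𝐂(A) : Subgroup Γ)) := fun w hw u hu => by
    by_contra e
    exact (key _ (comm_le_of_le le_rfl le_rfl (commutator_mem_commutator hu.1 hw.1))
      fun e' => e (commutatorElement_eq_one_iff_mul_comm.mp e')).2 u hu w hw rfl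
  have h7 := (l.mono inf_le_left (le_normalizer_inf hρD (le_normalizer_centralizer hρA)
    (mem_zpowers ρ))).loc_ab (not_dvd_card_of_le hpD inf_le_left) h6
  rw [← hDR, ← h5]
  exact commutator_sup_left_le he.le ((comm_eq_bot_iff.mpr (mem_cent_iff_le.mp h7)).le.trans bot_le)
    (h5.le.trans hDN)

theorem Irr.zc' (hp2 : p ≠ 2) (h : Irr p r V B ρ) {A : Subgroup Γ} (hAB : A ≤ B) (hA : IsPGroup 2 A)
    (he : ⁅A, zpowers ρ⁆ = A) (hne : A ≠ ⊥) (hc : ⁅A, A⁆ ≤ 𝐂(B)) {c : Γ} (hcB : c ∈ B) (hcA : c ∈ 𝐍(A))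
    (hcρ : ρ * c = c * ρ) (ho : Odd (orderOf c)) : c ∈ 𝐂(A) := by
  obtain ⟨z, hz, hs, hCρ, hcard⟩ := h.isES hp2 hAB hA he hne hc
  have hρA : zpowers ρ ≤ 𝐍(A) := he ▸ right_le_norm_comm A _
  have free : ∀ {q : ℕ} [Fact q.Prime] {P : Subgroup Γ}, IsPGroup q P → P ≤ 𝐍(A) →
      P ≤ 𝐂(zpowers z) → A ⊓ 𝐂(P) ≤ zpowers z → q ∣ {g | g ∈ A ∧ g ^ 2 = z}.ncard :=
    fun hP a b d => dvd_ncard_of_free hP _ (fun k hk x hx => ⟨conj_mem_of_mem_normalizer (a hk) hx.1,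
      by rw [conj_pow, hx.2, ← b hk z (mem_zpowers z), mul_inv_cancel_right]⟩)
      fun x hx e => hs.ne_one (hx.2.symm.trans (hs.pow_eq_one (d ⟨hx.1, e⟩)))
  have f1 : r ∣ _ := free (isPGroup_zpowers (k := 1) (by rw [pow_one, h.pow])) hρA
    (cent_comm.mp (hCρ.ge.trans inf_le_right)) hCρ.le
  refine zpowers_le.mp (le_of_forall_isSyl fun q hq => ?_)
  haveI := Fact.mk hq
  obtain ⟨P, hP⟩ := exists_isSyl q (zpowers c)
  refine ⟨P, hP, ?_⟩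
  by_contra hn
  have hd : q ∣ Nat.card (zpowers c) := by
    by_contra e
    exact hn ((hP.eq_bot e).le.trans bot_le)
  have hPB : P ≤ B := hP.le.trans (zpowers_le.mpr hcB)
  have hPA : P ≤ 𝐍(A) := hP.le.trans (zpowers_le.mpr hcA)
  have hPρ : zpowers ρ ≤ 𝐂(P) := cent_comm.mp (hP.le.trans (zpowers_le.mpr (by
    rw [cent_zpowers]; exact mem_C1.mpr hcρ.symm)))
  have hn0 : zpowers ρ ≤ 𝐍((A ⊓ 𝐂(P) : Subgroup Γ)) := le_normalizer_inf hρA (le_normalizer_of_le hPρ)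
  have h1 : ⁅A ⊓ 𝐂(P), zpowers ρ⁆ = ⊥ := by
    by_contra e
    have a1 := comm_le_left hn0
    have a2 := a1.trans inf_le_left
    obtain ⟨-, -, -, -, a3⟩ := h.isES hp2 (a2.trans hAB) (hA.to_le a2)
      (coprimeAct_zpowers h.pow (hn0 (mem_zpowers ρ)) fun e => h.cop (e.trans (card_dvd_of_le
        (inf_le_left.trans hAB)))).commutator_commutator e ((der_mono a2).trans hc)
    exact hn (cent_comm.mp ((eq_of_le_of_card_ge a2 (hcard.trans a3.symm).le).ge.trans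
      (a1.trans inf_le_right)))
  have f2 : q ∣ _ := free hP.isPGroup hPA (hPB.trans (cent_comm.mp (zpowers_le.mpr hz.2)))
    ((le_inf inf_le_left (comm_eq_bot_iff.mp h1)).trans hCρ.le)
  have q2 : ¬ q ∣ 2 := fun e => by
    rw [(Nat.prime_dvd_prime_iff_eq hq Nat.prime_two).mp e, Nat.card_zpowers] at hd
    exact (Nat.not_even_iff_odd.mpr ho) (even_iff_two_dvd.mpr hd)
  have qr : ¬ q ∣ r := fun e => h.cop ((Nat.prime_dvd_prime_iff_eq hq hr.out).mp e ▸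
    hd.trans (card_dvd_of_le (zpowers_le.mpr hcB)))
  obtain ⟨m, m1, m2⟩ := hs.exists_invCount
  have m3 := hs.invCount_add
  have m4 : r = 2 ^ m + 1 := by
    have : (r - 1) ^ 2 = (2 ^ m) ^ 2 := by
      have := hcard.symm.trans m1
      rw [pow_succ 2, mul_comm 2 m, pow_mul] at this
      omega
    have := (Nat.pow_left_injective two_ne_zero) this
    have := hr.out.one_lt
    omega
  have m5 : 2 ^ m ≠ 1 := fun e => hne (by
    have e2 : A = zpowers z := hs.eq_zpowers_iff.mpr (by rw [hcard, m4, e]; rfl)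
    rw [← he]
    exact comm_eq_bot_iff.mpr (e2.le.trans (hCρ.ge.trans inf_le_right)))
  rw [m1, pow_succ] at m3
  rw [mul_comm 2 m, pow_mul, sq] at m2 m3
  have m6 : ¬ q ∣ 2 ^ m := fun e => q2 (hq.dvd_of_dvd_pow e)
  have m7 : 0 < 2 ^ m := Nat.two_pow_pos m
  generalize {g | g ∈ A ∧ g ^ 2 = z}.ncard = N at f1 f2 m3
  generalize 2 ^ m = t at m2 m3 m4 m5 m6 m7
  rcases m2 with m2 | m2
  · obtain ⟨s, rfl⟩ : ∃ s, t = s + 2 := ⟨t - 2, by omega⟩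
    have : N = (s + 2) * (s + 1) := by nlinarith
    rw [this] at f1
    rcases (Nat.Prime.dvd_mul hr.out).mp f1 with e | e <;>
      have := Nat.le_of_dvd (by omega) e <;> omega
  · have : N = t * r := by rw [m4]; nlinarith
    rw [this] at f2
    exact ((Nat.Prime.dvd_mul hq).mp f2).elim m6 qr

end Cfsg.Agent.Lib.Fl
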