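/- Hall-Higman-Shult in general: the solvable case. -/
import Cfsg.Agent.Lib.Fl.GIrr

set_option autoImplicit false
set_option linter.unusedSectionVars false

namespace Cfsg.Agent.Lib.Fl

open Subgroup Cfsg.Agent.Lib.Core Cfsg.Agent.Lib.Glaub Cfsg.Agent.Lib.ZJ Cfsg.Agent.FT
open scoped commutatorElement

universe u
variable {Γ : Type u} [Group Γ] [Finite Γ] {p r : ℕ} [hp : Fact p.Prime] [hr : Fact r.Prime]
variable {V B : Subgroup Γ} {ρ : Γ}

theorem Irr.solv (hp2 : p ≠ 2) (h : Irr p r V B ρ)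
    (prop : ∀ H < B, ρ ∈ 𝐍(H) → ∀ P ≤ H, IsPGroup p P → ρ ∈ 𝐍(P) → ⁅P, zpowers ρ⁆ ≤ OpOf p H)
    (bad : ∃ P ≤ B, IsPGroup p P ∧ ρ ∈ 𝐍(P) ∧ ρ ∉ 𝐂(P)) : OppOf p B ≤ 𝐂(B) := by
  have hO := OppOf_nrm p B
  have hpO : ¬ p ∣ Nat.card (OppOf p B) := OppOf_not_dvd B
  have hρO : ρ ∈ 𝐍(OppOf p B) := le_normalizer_OppOf le_rfl h.ρB
  generalize OppOf p B = O at hO hpO hρO
  have hca := coprimeAct_zpowers h.pow h.ρB h.cop
  obtain ⟨P, hPB, hP, hρP, hPC⟩ := bad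
  have hSρ := (hca.mono_right hPB (zpowers_le.mpr hρP)).commutator_commutator
  have hSl := comm_le_left (zpowers_le.mpr hρP)
  have hSB := hSl.trans hPB
  have hS := hP.to_le hSl
  have hρS := right_le_norm_comm P (zpowers ρ)
  have hS1 : ⁅P, zpowers ρ⁆ ≠ ⊥ := fun e => hPC (mem_cent_iff_le.mpr (comm_eq_bot_iff.mp e))
  generalize ⁅P, zpowers ρ⁆ = S at hSρ hSB hS hρS hS1
  clear hSl hPB hP hρP hPC
  have hSO := hO.le_norm hSB
  rw [cent_comm]
  by_contra hne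
  have hSC : ¬ S ≤ 𝐂(O) := fun e => by
    have n := subcent_nrm hO.norm
    have nρ : zpowers ρ ≤ 𝐍((B ⊓ 𝐂(O) : Subgroup Γ)) :=
      le_normalizer_inf (zpowers_le.mpr h.ρB) (le_normalizer_centralizer (zpowers_le.mpr hρO))
    have := prop _ (n.le.lt_of_ne fun e => hne (e.ge.trans inf_le_right)) (nρ (mem_zpowers ρ)) S (le_inf hSB e)
      hS (hρS (mem_zpowers ρ))
    rw [hSρ, h.eq_bot (OpOf_isPGroup _) ((OpOf_le _).trans n.le) (le_normalizer_OpOf n.norm)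
      (le_normalizer_OpOf nρ (mem_zpowers ρ))] at this
    exact hS1 (le_bot_iff.mp this)
  have k0 : ∀ A ≤ O, ∀ U ≤ S, U ≤ 𝐍(A) → zpowers ρ ≤ 𝐍(A) → zpowers ρ ≤ 𝐍(U) → A ⊔ U < B →
      ⁅U, zpowers ρ⁆ ≤ 𝐂(A) := fun A h1 U hU h2 h3 h3' h4 => by
    have h5 := prop _ h4 (le_normalizer_sup h3 h3' (mem_zpowers ρ)) U le_sup_right (hS.to_le hU)
      (h3' (mem_zpowers ρ))
    refine comm_eq_bot_iff.mp (eq_bot_of_isPGroup_of_not_dvd (p := p) ((OpOf_isPGroup (A ⊔ U)).to_le ?_)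
      (not_dvd_card_of_le hpO ((comm_le_right ((comm_le_left h3').trans h2)).trans h1)))
    exact (commutator_mono h5 le_rfl).trans
      (comm_le_left (le_sup_left.trans (le_normalizer_OpOf le_normalizer)))
  -- `ρ` centralises `A` ⇒ `S` centralises `A`
  have k1 : ∀ A : Subgroup Γ, S ≤ 𝐍(A) → ρ ∈ 𝐂(A) → S ≤ 𝐂(A) := fun A h1 h2 => hSρ.ge.trans
    ((commutator_mono le_rfl (zpowers_le.mpr h2)).trans
      (comm_le_right (le_normalizer_centralizer h1)))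
  have k2 : ∀ A ≤ O, S ≤ 𝐍(A) → zpowers ρ ≤ 𝐍(A) → A ⊔ S < B → S ≤ 𝐂(A) := fun A h1 h2 h3 h4 =>
    hSρ.ge.trans (k0 A h1 S le_rfl h2 h3 hρS h4)
  have hOS : O ⊔ S = B := by
    by_contra e
    exact hSC (k2 O le_rfl hSO (zpowers_le.mpr hρO) ((sup_le hO.le hSB).lt_of_ne e))
  have hcop := coprime_card_of_isPGroup hS hpO
  have k3 : ∀ A < O, S ≤ 𝐍(A) → zpowers ρ ≤ 𝐍(A) → S ≤ 𝐂(A) := fun A h1 h2 h3 =>
    k2 A h1.le h2 h3 ((sup_le (h1.le.trans hO.le) hSB).lt_of_ne fun e => h1.ne (by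
      have := sup_inf_of_le_normalizer_left h1.le h2
      rwa [e, inf_eq_right.mpr hO.le, coprime_inf_eq_bot hcop, sup_bot_eq, eq_comm] at this))
  have hcS := coprimeAct_of_isPGroup_left hS hpO hSO
  have hOS' : ⁅O, S⁆ = O := by
    by_contra e
    exact hSC (cent_comm.mp (hcS.le_centralizer (cent_comm.mp (k3 _ ((comm_le_left hSO).lt_of_ne e)
      (right_le_norm_comm O S) (le_normalizer_commutator (zpowers_le.mpr hρO) hρS)))))
  have hρ1 : ρ ≠ 1 := fun e => hne (by rw [h.toLin.eq_bot e]; exact bot_le)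
  have hR := h.prime hρ1
  have hL := sdp_sup hρS (coprime_inf_eq_bot (coprime_mono h.coprime hSB le_rfl))
  have hcL : (Nat.card O).Coprime (Nat.card ↥(S ⊔ zpowers ρ)) :=
    hL.card ▸ hcop.symm.mul_right (coprime_mono h.coprime hO.le le_rfl)
  have hLO : S ⊔ zpowers ρ ≤ 𝐍(O) := sup_le hSO (zpowers_le.mpr hρO)
  have hl := h.toLin.mono hO.le hρO
  have hρC : ρ ∉ 𝐂(O) := fun e => hSC (k1 O hSO e)
  haveI := Fact.mk Nat.prime_two
  have hO2 : IsPGroup 2 O := by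
    by_contra e
    refine hSC (cent_comm.mp (le_of_forall_isSyl fun q hq => ?_))
    haveI := Fact.mk hq
    obtain ⟨Q, h1, h2⟩ := CoprimeAct.exists_isSyl ⟨hLO, hcL.symm, Or.inr (hL.isSolvable
      (isSolvable_of_isNilpotent hS.isNilpotent)
      (isSolvable_of_isComm (isComm_zpowers ρ)))⟩ q
    refine ⟨Q, h1, cent_comm.mp (k3 Q (h1.le.lt_of_ne ?_) (le_sup_left.trans h2)
      (le_sup_right.trans h2))⟩
    rintro rfl
    refine hρC (hl.loc_odd (s := q) ?_ ?_ h1.isPGroup)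
    · rintro rfl
      exact hρC (by rw [eq_bot_of_isPGroup_of_not_dvd h1.isPGroup hpO, cent_bot]; exact mem_top _)
    · rintro rfl
      exact e h1.isPGroup
  have k4 : ∀ A ≤ O, 𝐍(O) ≤ 𝐍(A) → IsMulCommutative A → ρ ∈ 𝐂(A) := fun A h1 h2 h3 =>
    (hl.mono h1 (h2 hρO)).loc_ab (not_dvd_card_of_le hpO h1) (isComm_iff_le_cent.mp h3)
  obtain ⟨z1, z2, z3⟩ := special_amb' hO2 hSO hcop.symm hOS' fun A h1 h2 h3 =>
    cent_comm.mp (k1 A (hSO.trans h2) (k4 A h1 h2 h3))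
  have z4 := k4 _ (Zc_le O) (norm_le_norm_Zc O) (Zc_isComm O)
  have hO1 : O ≠ ⊥ := fun e => hρC (by rw [e, cent_bot]; exact mem_top _)
  have zB : Zc O ≤ 𝐂(B) := cent_comm.mp
    (hOS.ge.trans (sup_le (le_cent_Zc O) (cent_comm.mp (z3.ge.trans inf_le_right))))
  have z5 : Nat.card (Zc O) = 2 := h.card_eq_two (le_inf ((Zc_le O).trans hO.le) zB) z4 z1
    (Zc_ne_bot hO2.isNilpotent hO1)
  -- the subgroups `D = [O, ρ]` and `C = C_O(ρ)`
  have hcρ := hca.mono_right hO.le (zpowers_le.mpr hρO)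
  obtain ⟨-, d2, d3⟩ := hl.special hpO
  have d4 := hcρ.commutator_commutator
  have d5 := hcρ.inf_centralizer_sup_commutator
  have d6 : ⁅O, zpowers ρ⁆ ⊲ O := comm_nrm_left (zpowers_le.mpr hρO)
  have d7 := right_le_norm_comm O (zpowers ρ) (mem_zpowers ρ)
  have d8 : ⁅O, zpowers ρ⁆ ≠ ⊥ := fun e => hρC (mem_cent_iff_le.mpr (comm_eq_bot_iff.mp e))
  have d9 : ⁅O, zpowers ρ⁆ ≤ 𝐂(O ⊓ 𝐂(zpowers ρ)) := by
    rw [commutator_comm]
    refine comm_eq_bot_iff.mp (three_subgroups_bot (comm_eq_bot_iff.mpr ?_) ?_)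
    · exact (commutator_mono le_rfl inf_le_left).trans (z2.le.trans (mem_cent_iff_le.mp z4))
    · rw [comm_eq_bot_iff.mpr inf_le_right, commutator_bot_left]
  have hC : S ⊓ 𝐂(zpowers ρ) = ⊥ := by
    have c1 : S ⊓ 𝐂(zpowers ρ) ≤ ⁅S, S⁆ := H6.le_der_of_comm_le hρS (coprime_mono h.coprime hSB le_rfl).symm
      (inf_le_left.trans (hSρ.ge.trans le_sup_left)) ((comm_eq_bot_iff.mpr inf_le_right).le.trans bot_le)
    have c2 : ⁅S, S⁆ ≤ S := comm_le_of_le le_rfl le_rfl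
    have c3 := le_normalizer_commutator hρS hρS
    have c4 : ∀ U ≤ S, S ≤ 𝐍(U) → zpowers ρ ≤ 𝐍(U) → U ≤ 𝐂(O) → U = ⊥ := fun U a b c d =>
      h.eq_bot (hS.to_le a) (a.trans hSB) (hOS.ge.trans (sup_le ((cent_comm.mp d).trans (cent_le_norm _)) b))
        (c (mem_zpowers ρ))
    have c5 : ⁅⁅S, S⁆, zpowers ρ⁆ ≤ 𝐂(O) := k0 O le_rfl _ c2 (c2.trans hSO) (zpowers_le.mpr hρO) c3
      ((sup_le hO.le (c2.trans hSB)).lt_of_ne fun e => (commutator_lt_of_isPGroup hS hS le_normalizer hS1).ne (by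
        have := sup_inf_of_le_normalizer_right c2 (c2.trans hSO)
        rwa [sup_comm, e, inf_eq_right.mpr hSB, inf_comm, coprime_inf_eq_bot hcop, sup_bot_eq, eq_comm] at this))
    have c6 : ⁅S, S⁆ ≤ 𝐂(zpowers ρ) := comm_eq_bot_iff.mp (le_bot_iff.mp ((le_inf ((comm_le_left c3).trans c2)
      c5).trans (c4 _ inf_le_left (le_normalizer_inf le_normalizer (le_normalizer_centralizer hSO))
        (le_normalizer_inf hρS (le_normalizer_centralizer (zpowers_le.mpr hρO))) inf_le_right).le))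
    have c7 : ⁅S, S⁆ ≤ 𝐂(⁅O, zpowers ρ⁆) := fun c hc =>
      h.zc' hp2 (d6.le.trans hO.le) (hO2.to_le d6.le) d4 d8 ((der_mono d6.le).trans (z2.le.trans zB))
        (hSB (c2 hc)) (le_normalizer_commutator (c2.trans hSO) (c6.trans (cent_le_norm _)) hc)
        (c6 hc ρ (mem_zpowers ρ)) (by
          obtain ⟨k, hk⟩ := pow_eq_one_of_isPGroup hS (c2 hc)
          exact Odd.of_dvd_nat ((hp.out.odd_of_ne_two hp2).pow) (orderOf_dvd_of_pow_eq_one hk))
    refine le_bot_iff.mp (c1.trans (c4 _ c2 (left_le_norm_comm S S) c3 ?_).le)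
    by_contra c8
    have c9 := (cent_comm.mp (k3 (O ⊓ 𝐂(⁅S, S⁆)) (inf_le_left.lt_of_ne fun e => c8 (cent_comm.mp
      (e.ge.trans inf_le_right))) (le_normalizer_inf hSO (le_normalizer_centralizer (left_le_norm_comm S S)))
      (le_normalizer_inf (zpowers_le.mpr hρO) (le_normalizer_centralizer c3))))
    have c10 : ⁅O, zpowers ρ⁆ ≤ 𝐂(S) := (le_inf d6.le (cent_comm.mp c7)).trans c9
    refine hSC (cent_comm.mp (hcS.le_centralizer (le_trans ?_ c10)))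
    have c11 := (cent_comm.mp c10).trans (cent_le_norm _)
    rw [← hSρ, commutator_comm]
    exact three_subgroups_norm c11 (zpowers_le.mpr d7) d6.norm
      (by rw [commutator_comm (zpowers ρ)]; exact comm_le_left c11) (commutator_mono (comm_le_left hSO) le_rfl)
  generalize ⁅O, zpowers ρ⁆ = D at d2 d3 d4 d5 d6 d7 d8 d9
  have hD2 := hO2.to_le d6.le
  have e1 : Zc D = Zc O := by
    have h1 : Zc D ≤ Zc O := d2.ge.trans ((der_mono d6.le).trans z2.le)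
    refine eq_of_le_of_card_ge h1 (z5 ▸ ?_)
    exact one_lt_card_iff.mpr (Zc_ne_bot hD2.isNilpotent d8)
  have e2 := (hl.mono d6.le d7).hh hp2.symm hD2 (by rw [d2, e1, z5]) (d2.le.trans (Zc_le_cent D))
    (by rw [← centralizer_zpowers]; exact d3)
  have e3 := card_inf_mul_relIndex 𝐂(D) D
  rw [e2, inf_comm, show D ⊓ 𝐂(D) = Zc O from e1, z5] at e3
  have c1 : Zc O ≤ O ⊓ 𝐂(zpowers ρ) := le_inf (Zc_le O) (mem_cent_iff_le.mp z4)
  have e4 := (IsProd.of_norm' (d6.le_norm inf_le_left) d5).card_mul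
  rw [show O ⊓ 𝐂(zpowers ρ) ⊓ D = Zc O by
    rw [← e1, ← d3, inf_right_comm, inf_eq_right.mpr d6.le], z5, ← e3] at e4
  have e5 := (Frobenius_Wielandt_fixpoint (H6.frob_sup (H6.semiReg_of_prime hR hC) hρS
    (fun e => hSC (e.le.trans bot_le)) (ne_bot_of_card_prime hR)) hLO hcL
    (isSolvable_of_isNilpotent hO2.isNilpotent)).1
  rw [z3, centralizer_sup, ← inf_assoc, z3, inf_eq_left.mpr (c1.trans inf_le_right), z5,
    h.card_eq hρ1] at e5
  have e6 := card_mul_relIndex c1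
  obtain ⟨k, hk⟩ := exists_relIndex_eq_pow (hO2.to_le (inf_le_left (b := 𝐂(zpowers ρ)))) (Zc O)
  have hr2 : r ≠ 2 := by
    rintro rfl
    exact h.cop ((dvd_card_of_isPGroup_of_ne_bot hO2 hO1).trans (card_dvd_of_le hO.le))
  have hk1 : k ≠ 1 := by
    rintro rfl
    have h1 := (cycMod_of_prime_relIndex (hk ▸ Nat.prime_two)
      ((Zc_nrm O).le_norm inf_le_left)).isComm (le_inf c1 ((Zc_le_cent O).trans
        (cent_anti inf_le_left)))
    have h2 : O ⊓ 𝐂(zpowers ρ) ≤ Zc O := le_inf inf_le_left (cent_comm.mp (d5.ge.trans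
      (sup_le (isComm_iff_le_cent.mp h1) d9)))
    rw [relIndex_eq_one.mpr h2] at hk
    exact absurd hk (by norm_num)
  rw [hk, z5] at e6
  obtain ⟨n, rfl⟩ := Nat.exists_eq_add_of_le' hr.out.one_le
  rw [← e6, Nat.add_sub_cancel] at e4
  rw [← e6, show Nat.card O = 2 * 2 ^ k * n ^ 2 by nlinarith, mul_pow] at e5
  have e7 : n ^ 2 = (2 ^ k) ^ n := by
    refine Nat.eq_of_mul_eq_mul_left (show 0 < 2 ^ (n + 1) * (2 * 2 ^ k) by positivity) ?_
    rw [mul_assoc, e5]; ring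
  rcases Nat.eq_zero_or_pos k with rfl | hk0
  · rw [pow_zero, one_pow, Nat.pow_eq_one] at e7
    omega
  have e8 : (2 ^ n) ^ 2 ≤ (2 ^ k) ^ n := by
    rw [← pow_mul, ← pow_mul]
    exact Nat.pow_le_pow_right two_pos (by nlinarith [show 2 ≤ k by omega])
  exact absurd (e8.trans e7.ge) (not_le.mpr (Nat.pow_lt_pow_left n.lt_two_pow_self two_ne_zero))

end Cfsg.Agent.Lib.Fl
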