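/-
The general Hall-Higman-Shult theorem: definitions.
-/
import Cfsg.Agent.Lib.Fl.CDefs

set_option autoImplicit false
set_option linter.unusedSectionVars false

namespace Cfsg.Agent.Lib.Fl

open Subgroup Cfsg.Agent.Lib.Core Cfsg.Agent.Lib.Glaub Cfsg.Agent.Lib.ZJ
open scoped commutatorElement

variable {Γ : Type*} [Group Γ]

/-- `V` is irreducible. -/
structure LI (p r : ℕ) (V B : Subgroup Γ) (ρ : Γ) : Prop extends Lin p r V B ρ where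
  irr : ∀ U ≤ V, B ≤ 𝐍(U) → ρ ∈ 𝐍(U) → U = ⊥ ∨ U = V

/-- A minimal counterexample. -/
structure Min2 (p r : ℕ) (V B : Subgroup Γ) (ρ : Γ) : Prop extends LI p r V B ρ where
  eq : ⁅B, zpowers ρ⁆ = B
  prop : ∀ H < B, ρ ∈ 𝐍(H) → IsPGroup p (OupOf p ⁅H, zpowers ρ⁆)
  bad : ¬ IsPGroup p (OupOf p B)

end Cfsg.Agent.Lib.Fl

namespace Cfsg.Agent.Lib.Fl2

open Subgroup Cfsg.Agent.Lib.Core Cfsg.Agent.Lib.Glaub Cfsg.Agent.Lib.ZJ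
open Cfsg.Agent.Lib.Fl (Sp)
open scoped commutatorElement

variable {Γ : Type*} [Group Γ]

/-- `A = [A, R]` is a non-trivial abelian `2`-subgroup of `Y`. -/
structure PS (Y R A : Subgroup Γ) : Prop where
  le : A ≤ Y
  two : IsPGroup 2 A
  ne : A ≠ ⊥
  ab : A ≤ 𝐂(A)
  inv : R ≤ 𝐍(A)
  eq : ⁅A, R⁆ = A

/-- The simple configuration: `Y` is simple of index `r` in the ambient group. -/
structure SC (p r : ℕ) (Y : Subgroup Γ) : Prop where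
  p2 : p ≠ 2
  normal : Y.Normal
  idx : Y.index = r
  cop : ¬ r ∣ Nat.card Y
  simple : ∀ N ≤ Y, Y ≤ 𝐍(N) → N = ⊥ ∨ N = Y
  nab : ¬ Y ≤ 𝐂(Y)
  comm : ∀ R : Subgroup Γ, Nat.card R = r → ⁅Y, R⁆ = Y
  prop : ∀ R : Subgroup Γ, Nat.card R = r → ∀ H < Y, R ≤ 𝐍(H) → IsPGroup p (OupOf p ⁅H, R⁆)
  nop : ∀ R : Subgroup Γ, Nat.card R = r → ∀ T, IsSyl 2 T Y → R ≤ 𝐍(T) →
    ∀ P ≤ Y, IsPGroup p P → R ≤ 𝐍(P) → ⁅T, R⁆ ≤ 𝐍(P) → P ≤ 𝐂(R)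
  odd : ∀ R : Subgroup Γ, Nat.card R = r → ∀ s : ℕ, s.Prime → s ≠ 2 → s ≠ p →
    ∀ U ≤ Y, IsPGroup s U → R ≤ 𝐍(U) → U ≤ 𝐂(R)
  sp : ∀ R : Subgroup Γ, Nat.card R = r → ∀ U ≤ Y, IsPGroup 2 U → R ≤ 𝐍(U) → Sp ⁅U, R⁆ R
  ab : ∀ R : Subgroup Γ, Nat.card R = r → ∀ A, PS Y R A →
    ∀ U ≤ Y ⊓ 𝐂(A), IsPGroup 2 U → R ≤ 𝐍(U) → ⁅U, R⁆ ≤ A
  zc : ∀ R : Subgroup Γ, Nat.card R = r → ∀ A, PS Y R A →
    ∀ c ∈ Y ⊓ 𝐍(A) ⊓ 𝐂(R), Odd (orderOf c) → c ∈ 𝐂(A)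

/-- A frame: `R` of order `r` and `D = [T, R]` for an invariant Sylow `2`-subgroup `T`. -/
structure Fr (r : ℕ) (Y R D : Subgroup Γ) : Prop where
  card : Nat.card R = r
  ex : ∃ T, IsSyl 2 T Y ∧ R ≤ 𝐍(T) ∧ D = ⁅T, R⁆

end Cfsg.Agent.Lib.Fl2
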