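/-
The general Hall-Higman-Shult theorem: reduction to a minimal configuration.
-/
import Cfsg.Agent.Lib.Fl.HDefs
import Cfsg.Agent.Lib.Fl.GIrr
import Cfsg.Agent.Lib.Fl.CS0
import Cfsg.Agent.Lib.Fl.Loc

set_option autoImplicit false
set_option linter.unusedSectionVars false

namespace Cfsg.Agent.Lib.Fl

open Subgroup Cfsg.Agent.Lib.Core Cfsg.Agent.Lib.Glaub Cfsg.Agent.Lib.ZJ Cfsg.Agent.FT
open scoped commutatorElement

universe u
variable {Γ : Type u} [Group Γ] [Finite Γ] {p r : ℕ} [hp : Fact p.Prime] [hr : Fact r.Prime]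
variable {V B : Subgroup Γ} {ρ : Γ}

theorem Lin0.act (h : Lin0 p r V B ρ) {H : Subgroup Γ} (hH : H ≤ B) (hρ : ρ ∈ 𝐍(H)) :
    CoprimeAct (zpowers ρ) H :=
  coprimeAct_zpowers h.pow hρ (not_dvd_card_of_le h.cop hH)

theorem mem_norm_comm (H : Subgroup Γ) (ρ : Γ) : ρ ∈ 𝐍(⁅H, zpowers ρ⁆) :=
  right_le_norm_comm _ _ (mem_zpowers ρ)

theorem comm_zp_le {H : Subgroup Γ} (hρ : ρ ∈ 𝐍(H)) : ⁅H, zpowers ρ⁆ ≤ H :=
  comm_le_left (zpowers_le.mpr hρ)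

theorem bar_comm_zp {X : Subgroup Γ} {Q : Type*} [Group Q] (f : X →* Q) (hB : B ≤ X) (hρ : ρ ∈ X) :
    bar f ⁅B, zpowers ρ⁆ = ⁅bar f B, zpowers (f ⟨ρ, hρ⟩)⁆ := by
  rw [bar_commutator f hB (zpowers_le.mpr hρ), bar_zpowers f ⟨ρ, hρ⟩]

theorem hhs_aux
    (H : ∀ (Γ : Type u) [Group Γ] [Finite Γ] (V B : Subgroup Γ) (ρ : Γ), Min2 p r V B ρ → False)
    (n : ℕ) : ∀ (m : ℕ) (Γ : Type u) [Group Γ] [Finite Γ] (V B : Subgroup Γ) (ρ : Γ),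
      Nat.card B ≤ n → Nat.card V = m → Lin0 p r V B ρ →
      ∀ x ∈ OupOf p ⁅B, zpowers ρ⁆, (orderOf x).Coprime p → x ∈ 𝐂(V) := by
  induction n using Nat.strong_induction_on with
  | h n ih =>
  intro m
  induction m using Nat.strong_induction_on with
  | h m ih' =>
  intro Γ _ _ V B ρ hn hm h x hx hc
  have hxB : x ∈ B := comm_zp_le h.ρB (OupOf_le _ hx)
  by_cases h0 : V = ⊥
  · rw [h0]; exact fun v hv => by rw [mem_bot.mp hv, one_mul, mul_one]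
  by_cases hirr : ∀ U, U ≤ V → U ≠ ⊥ → B ≤ 𝐍(U) → ρ ∈ 𝐍(U) → U = V
  · obtain ⟨Γ', _, _, f, V', hk, -, hL, hi, -⟩ := h.transfer_irr h0 hirr
    have key : ∀ K < bar f B, f ⟨ρ, h.ρV⟩ ∈ 𝐍(K) →
        IsPGroup p (OupOf p ⁅K, zpowers (f ⟨ρ, h.ρV⟩)⁆) := fun K hK hρ =>
      isPGroup_of_forall_coprime fun y hy hy' => mem_bot.mp (hL.faith.le
        ⟨hK.le (comm_zp_le hρ (OupOf_le _ hy)), ih _ ((card_lt_of_lt hK).trans_le
          ((Nat.le_of_dvd Nat.card_pos (card_bar_dvd f B)).trans hn)) _ Γ' V' K _ le_rfl rfl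
          (hL.toLin0.mono hK.le hρ) y hy hy'⟩)
    have hb : IsPGroup p (OupOf p ⁅bar f B, zpowers (f ⟨ρ, h.ρV⟩)⁆) := by
      by_cases e : ⁅bar f B, zpowers (f ⟨ρ, h.ρV⟩)⁆ = bar f B
      · rw [e]
        by_contra hb
        exact H Γ' V' _ _ ⟨⟨hL, fun U h1 h2 h3 => or_iff_not_imp_left.mpr
          fun h4 => hi U h1 h4 h2 h3⟩, e, key, hb⟩
      · have := key _ (lt_of_le_of_ne (comm_zp_le hL.ρB) e) (mem_norm_comm _ _)
        rwa [(hL.toLin0.act (H := bar f B) le_rfl hL.ρB).commutator_commutator] at this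
    rw [← bar_comm_zp f h.BV, ← bar_OupOf f ((comm_zp_le h.ρB).trans h.BV)] at hb
    exact (hk ⟨x, h.BV hxB⟩).mp (eq_one_of_isPGroup_coprime hb (mem_bar_of_mem f hx)
      (coprime_orderOf_bar f _ hc))
  · push Not at hirr
    obtain ⟨U, hUV, hU0, hBU, hρU, hne⟩ := hirr
    have h1 := ih' _ (hm ▸ card_lt_of_lt (lt_of_le_of_ne hUV hne)) Γ U B ρ hn rfl
      (h.sub hUV hρU hBU) x hx hc
    obtain ⟨Q, _, _, f, -, hk, -⟩ := exists_bar (N := U) (X := 𝐍(U)) le_normalizer le_rfl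
    have hVU : V ≤ 𝐍(U) := le_normalizer_of_le_centralizer (h.ab.1.trans (centralizer_le hUV))
    have hxN := hBU hxB
    have h2 := ih' (Nat.card (bar f V)) (by
      rw [← hm, ← card_bar_mul f hVU, hk, inf_eq_left.mpr hUV]
      exact lt_mul_right Nat.card_pos ((one_lt_card_iff_ne_bot _).mpr hU0)) Q _ (bar f B) _
      ((Nat.le_of_dvd Nat.card_pos (card_bar_dvd f B)).trans hn) rfl (h.bar hVU hBU hρU f)
      (f ⟨x, hxN⟩) (by
        rw [← bar_comm_zp f hBU, ← bar_OupOf f ((comm_zp_le h.ρB).trans hBU)]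
        exact mem_bar_of_mem f hx)
      (coprime_orderOf_bar f _ hc)
    have h3 : ⁅V, zpowers x⁆ ≤ U := by
      rw [← hk, ← bar_le_centralizer_iff f hVU (zpowers_le.mpr hxN), le_centralizer_iff,
        bar_zpowers f ⟨x, hxN⟩]
      exact zpowers_le.mpr h2
    exact le_centralizer_iff.mp ((coprimeAct_of_isPGroup_right (not_dvd_card_zpowers hp.out hc)
      h.isPGroup (zpowers_le.mpr (h.BV hxB))).le_centralizer
      (h3.trans (le_centralizer_iff.mp (zpowers_le.mpr h1)))) (mem_zpowers x)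

theorem hhs_of_min
    (H : ∀ (Γ : Type u) [Group Γ] [Finite Γ] (V B : Subgroup Γ) (ρ : Γ), Min2 p r V B ρ → False)
    (h : Lin p r V B ρ) : IsPGroup p (OupOf p ⁅B, zpowers ρ⁆) :=
  isPGroup_of_forall_coprime fun x hx hc => mem_bot.mp (h.faith.le
    ⟨comm_zp_le h.ρB (OupOf_le _ hx), hhs_aux H _ _ Γ V B ρ le_rfl rfl h.toLin0 x hx hc⟩)

theorem LI.toIrr (h : LI p r V B ρ) : Irr p r V B ρ := ⟨h.toLin, h.irr⟩

theorem Irr.toLI (h : Irr p r V B ρ) : LI p r V B ρ := ⟨h.toLin, h.irr⟩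

theorem cj_zp (b ρ : Γ) : cj(b, zpowers ρ) = zpowers (b * ρ * b⁻¹) := by
  rw [MonoidHom.map_zpowers]; rfl

theorem Min2.cj (h : Min2 p r V B ρ) {b : Γ} (hb : b ∈ B) : Min2 p r V B (b * ρ * b⁻¹) := by
  have hN : ∀ X : Subgroup Γ, b * ρ * b⁻¹ ∈ 𝐍(X) → ρ ∈ 𝐍(cj(b⁻¹, X)) := fun X c => by
    rw [← map_conj_normalizer, mem_map_conj, inv_inv]; exact c
  refine ⟨(h.toLI.toIrr.cj hb).toLI, ?_, fun K a c => ?_, h.bad⟩
  · rw [← cj_zp, ← map_conj_eq_of_mem hb, ← cj_comm, h.eq]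
  · have := isPGroup_cj (h.prop cj(b⁻¹, K) (by
      rw [← map_conj_eq_of_mem (inv_mem hb)]
      exact (map_lt_map_iff_of_injective (MulAut.conj b⁻¹).injective).mpr a) (hN K c)) b
    rwa [OupOf_conj, cj_comm, map_conj_map_conj_inv, cj_zp] at this

theorem Min2.of_zpowers (h : Min2 p r V B ρ) {ρ' : Γ} (e : zpowers ρ' = zpowers ρ) :
    Min2 p r V B ρ' :=
  ⟨(h.toLI.toIrr.of_zpowers e).toLI, e ▸ h.eq, fun K a b => e ▸ h.prop K a (by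
    rw [← zpowers_le, ← e, zpowers_le]; exact b), h.bad⟩

theorem Min2.conj (h : Min2 p r V B ρ) {b ρ' : Γ} (hb : b ∈ B)
    (e : zpowers ρ' = cj(b, zpowers ρ)) : Min2 p r V B ρ' :=
  (h.cj hb).of_zpowers (by rw [e, cj_zp])

theorem LI.eq_bot' (h : LI p r V B ρ) {P : Subgroup Γ} (hP : IsPGroup p P) (hPB : P ≤ B)
    (hB : B ≤ 𝐍(P)) (hρ : ρ ∈ 𝐍(P)) : P = ⊥ := h.toIrr.eq_bot hP hPB hB hρ

theorem LI.op (h : LI p r V B ρ) : OpOf p B = ⊥ := h.toIrr.op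

theorem Min2.star (h : Min2 p r V B ρ) {H X : Subgroup Γ} (hH : H < B) (hρ : ρ ∈ 𝐍(H))
    (hX : X ≤ H) (hp' : IsPGroup p X) (hρX : ρ ∈ 𝐍(X)) : ⁅X, zpowers ρ⁆ ≤ OpOf p H :=
  (le_OupOf (hp'.to_le (comm_zp_le hρX)) (commutator_mono hX le_rfl)).trans
    (le_OpOf ((OupOf_le _).trans (comm_zp_le hρ)) (le_normalizer_OupOf (left_le_norm_comm _ _))
      (h.prop H hH hρ))

theorem Lin.comm_eq_sup (h : Lin p r V B ρ) {H T S : Subgroup Γ} (hH : H ≤ B) (hρ : ρ ∈ 𝐍(H))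
    (hT : IsSyl 2 T H) (hρT : ρ ∈ 𝐍(T)) (hS : IsSyl p S H) (hρS : ρ ∈ 𝐍(S)) :
    ⁅H, zpowers ρ⁆ = ⁅S, zpowers ρ⁆ ⊔ ⁅T, zpowers ρ⁆ := by
  have a := h.toLin0.act hH hρ
  have hn : zpowers ρ ≤ 𝐍(⁅S, zpowers ρ⁆ ⊔ ⁅T, zpowers ρ⁆) :=
    le_normalizer_sup (right_le_norm_comm _ _) (right_le_norm_comm _ _)
  refine le_antisymm ?_ (sup_le (commutator_mono hS.le le_rfl) (commutator_mono hT.le le_rfl))
  rw [comm_eq_of_prod (lemF a (sup_le ((comm_zp_le hρS).trans hS.le)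
    ((comm_zp_le hρT).trans hT.le)) hn fun s hs => ?_)]
  · exact comm_le_left hn
  by_cases e2 : s = 2
  · subst e2; exact ⟨T, hT, zpowers_le.mpr hρT, le_sup_right⟩
  by_cases ep : s = p
  · subst ep; exact ⟨S, hS, zpowers_le.mpr hρS, le_sup_left⟩
  have := Fact.mk hs
  obtain ⟨P, hP, n⟩ := a.exists_isSyl s
  refine ⟨P, hP, n, ?_⟩
  rw [comm_eq_bot_iff'.mpr (zpowers_le.mpr ((h.mono (hP.le.trans hH)
    (zpowers_le.mp n)).loc_odd ep e2 hP.isPGroup))]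
  exact bot_le

theorem Min2.p2 (h : Min2 p r V B ρ) : p ≠ 2 := by
  rintro rfl
  obtain ⟨T, hT, n⟩ := (h.toLin0.act le_rfl h.ρB).exists_isSyl 2
  have e := h.toLin.comm_eq_sup le_rfl h.ρB hT (zpowers_le.mp n) hT (zpowers_le.mp n)
  rw [h.eq, sup_idem] at e
  exact h.bad (hT.isPGroup.to_le ((OupOf_le B).trans (e.le.trans (comm_le_left n))))

end Cfsg.Agent.Lib.Fl
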