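/- The general Hall-Higman-Shult theorem: proper normal invariant subgroups are central. -/
import Cfsg.Agent.Lib.Fl.HRed
import Cfsg.Agent.Lib.Fl.GSolv

set_option autoImplicit false
set_option linter.unusedSectionVars false

namespace Cfsg.Agent.Lib.Fl

open Subgroup Cfsg.Agent.Lib.Core Cfsg.Agent.Lib.Glaub Cfsg.Agent.Lib.ZJ Cfsg.Agent.FT
open scoped commutatorElement

universe u
variable {Γ : Type u} [Group Γ] [Finite Γ] {p r : ℕ} [hp : Fact p.Prime] [hr : Fact r.Prime]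
variable {V B : Subgroup Γ} {ρ : Γ}

theorem Min2.exP (h : Min2 p r V B ρ) : ∃ P ≤ B, IsPGroup p P ∧ ρ ∈ 𝐍(P) ∧ ρ ∉ 𝐂(P) := by
  have a := coprimeAct_zpowers h.pow h.ρB h.cop
  obtain ⟨T, hT, n⟩ := a.exists_isSyl 2
  obtain ⟨S, hS, m⟩ := a.exists_isSyl p
  refine ⟨S, hS.le, hS.isPGroup, m (mem_zpowers ρ), fun e => h.bad ?_⟩
  have h1 := h.toLin.comm_eq_sup le_rfl h.ρB hT (n (mem_zpowers ρ)) hS (m (mem_zpowers ρ))
  rw [h.eq, comm_eq_bot_iff.mpr (mem_cent_iff_le.mp e), bot_sup_eq] at h1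
  rw [OupOf_eq_bot_iff.mpr (not_dvd_of_isPGroup_ne h.p2.symm
    (hT.isPGroup.to_le (h1.le.trans (comm_le_left n))))]
  exact IsPGroup.of_bot

theorem Min2.solv (h : Min2 p r V B ρ) : OppOf p B ≤ 𝐂(B) :=
  Irr.solv h.p2 ⟨h.toLin, h.irr⟩ (fun _ a b _ c d e => h.star a b c d e) h.exP

theorem Min2.cent_opp (h : Min2 p r V B ρ) : ρ ∈ 𝐂(OppOf p B) :=
  (h.toLin.mono (OppOf_le B) (le_normalizer_OppOf le_rfl h.ρB)).loc_ab (OppOf_not_dvd B)
    (h.solv.trans (cent_anti (OppOf_le B)))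

theorem Min2.caseB (h : Min2 p r V B ρ) : ρ ∈ 𝐂(OpOf 2 B) :=
  cent_anti (le_OppOf (OpOf_le B) (le_normalizer_OpOf le_normalizer)
    (not_dvd_of_isPGroup_ne h.p2.symm (OpOf_isPGroup B))) h.cent_opp

theorem Min2.hZ (h : Min2 p r V B ρ) : ∀ N < B, B ≤ 𝐍(N) → ρ ∈ 𝐍(N) → N ≤ 𝐂(B) := by
  intro N hN h1 h2
  have h3 : Subn B ⁅N, zpowers ρ⁆ := (Subn.of_normal hN.le h1).normal
    (comm_le_left (zpowers_le.mpr h2)) (left_le_norm_comm _ _)
  have h4 := (h3.normal (OupOf_le _) (le_normalizer_OupOf le_normalizer)).le_OpOf (h.prop N hN h2)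
  rw [h.toLI.op, le_bot_iff, OupOf_eq_bot_iff] at h4
  have h5 := (coprimeAct_zpowers h.pow h2 (not_dvd_card_of_le h.cop hN.le)).le_centralizer
    ((h3.le_OppOf h4).trans (mem_cent_iff_le.mp h.cent_opp))
  exact cent_comm.mp (h.eq.ge.trans ((commutator_mono le_rfl (cent_comm.mp h5)).trans
    (comm_le_right (le_normalizer_centralizer h1))))

end Cfsg.Agent.Lib.Fl
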