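/- Hall-Higman-Shult in general: a Krull-Schmidt argument. -/
import Cfsg.Agent.Lib.Fl.Defs

set_option autoImplicit false
set_option linter.unusedSectionVars false

namespace Cfsg.Agent.Lib.Fl

open Subgroup Cfsg.Agent.Lib.Core Cfsg.Agent.Lib.Glaub Cfsg.Agent.Lib.ZJ

theorem exists_idem_pow {M : Type*} [Monoid M] [Finite M] (x : M) : ∃ n, x ^ (n + 1) * x ^ (n + 1) = x ^ (n + 1) := by
  letI : TopologicalSpace M := ⊥
  haveI : DiscreteTopology M := ⟨rfl⟩
  obtain ⟨_, ⟨n, rfl⟩, e⟩ := exists_idempotent_in_compact_subsemigroup (fun _ => continuous_of_discreteTopology)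
    (Set.range fun n => x ^ (n + 1)) (Set.range_nonempty _) (Set.toFinite _).isCompact (by
      rintro _ ⟨a, rfl⟩ _ ⟨b, rfl⟩
      exact ⟨a + b + 1, by beta_reduce; rw [← pow_add, add_add_add_comm, add_assoc (a + b)]⟩)
  exact ⟨n, e⟩

theorem nilp_comm {R : Type*} [Ring R] {a b : R} (h : IsNilpotent (a * b)) : IsNilpotent (b * a) := by
  obtain ⟨n, h⟩ := h
  exact ⟨n + 1, by rw [pow_succ', mul_assoc, ← mul_pow_mul, h, zero_mul, mul_zero]⟩

theorem ks_ring {G R : Type*} [Group G] [Finite G] [Ring R] [Finite R] (φ : G →* R) {L : Subgroup G} {ρ : G}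
    {r : ℕ} (hr : r.Prime) (h1 : ρ ^ r = 1) (hL : ρ ∈ 𝐍(L)) (hs : ∑ i ∈ Finset.range r, φ ρ ^ i = 0) (n : ℕ) :
    ∀ e : R, {x | e * x = x}.ncard = n → e * e = e → (∀ l ∈ L, φ l * e = e * φ l) →
      ∀ l ∈ L, φ l * e = e → φ (ρ * l * ρ⁻¹) * e = e := by
  induction n using Nat.strong_induction_on with
  | h n ih =>
  intro e hn ee he
  by_cases hf : ∃ f, f * f = f ∧ (∀ l ∈ L, φ l * f = f * φ l) ∧ e * f = f ∧ f * e = f ∧ f ≠ 0 ∧ f ≠ e
  · obtain ⟨f, ff, hf, ef, fe, f0, f1⟩ := hf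
    have key : ∀ f, f * f = f → (∀ l ∈ L, φ l * f = f * φ l) → e * f = f → f * e ≠ e →
        ∀ l ∈ L, φ l * e = e → φ (ρ * l * ρ⁻¹) * f = f := fun f ff hf ef fe l hl c =>
      ih _ (hn ▸ Set.ncard_lt_ncard ⟨fun x (hx : f * x = x) => show e * x = x by
        rw [← hx, ← mul_assoc, ef], fun c => fe (c ee)⟩) f rfl ff hf l hl (by rw [← ef, ← mul_assoc, c])
    intro l hl c
    have a := key f ff hf ef (by rwa [fe]) l hl c
    have b := key (e - f) (by rw [sub_mul, mul_sub, mul_sub, ee, ef, fe, ff, sub_self, sub_zero])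
      (fun l hl => by rw [mul_sub, sub_mul, he l hl, hf l hl]) (by rw [mul_sub, ee, ef])
      (by rwa [sub_mul, ee, fe, Ne, sub_eq_self]) l hl c
    rwa [mul_sub, a, sub_left_inj] at b
  let N : Subgroup G :=
    { carrier := {l | l ∈ L ∧ φ l * e = e}
      one_mem' := ⟨one_mem _, by simp⟩
      mul_mem' := fun a b => ⟨mul_mem a.1 b.1, by rw [map_mul, mul_assoc, b.2, a.2]⟩
      inv_mem' := fun {a} h => ⟨inv_mem h.1, by
        conv_lhs => rw [← h.2, ← mul_assoc, ← map_mul, inv_mul_cancel, map_one, one_mul]⟩ }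
  by_contra hc
  have hN : ρ ∉ 𝐍(N) := fun c => hc fun l hl e => (conj_mem_of_mem_normalizer c (⟨hl, e⟩ : l ∈ N)).2
  let A := Subring.centralizer (φ '' L)
  have mA : ∀ {a}, a ∈ A ↔ ∀ l ∈ L, φ l * a = a * φ l := by simp [A, Subring.mem_centralizer_iff]
  have i1 : ∀ g, φ g * φ g⁻¹ = 1 := fun g => by rw [← map_mul, mul_inv_cancel, map_one]
  have i2 : ∀ g, φ g⁻¹ * φ g = 1 := fun g => by rw [← map_mul, inv_mul_cancel, map_one]
  have cA : ∀ g ∈ 𝐍(L), ∀ a ∈ A, φ g * a * φ g⁻¹ ∈ A := fun g hg a ha => mA.2 fun l hl => by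
    have := mA.1 ha _ (conj_mem_of_mem_normalizer (inv_mem hg) hl)
    simp only [map_mul, inv_inv] at this
    calc _ = φ g * (φ g⁻¹ * φ l * φ g * a) * φ g⁻¹ := by simp only [← mul_assoc, i1, one_mul]
      _ = _ := by rw [this]; simp only [mul_assoc, i1, mul_one]
  have eA : e ∈ A := mA.2 he
  have nil : ∀ k ∈ 𝐍(L), k ∉ 𝐍(N) → ∀ a ∈ A, IsNilpotent (e * (a * (φ k * e * φ k⁻¹) * e)) := fun k hk kN a ha => by
    have yA : e * (a * (φ k * e * φ k⁻¹) * e) ∈ A := mul_mem eA (mul_mem (mul_mem ha (cA k hk e eA)) eA)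
    have y3 : ∀ l ∈ N, φ (k * l * k⁻¹) * (e * (a * (φ k * e * φ k⁻¹) * e)) = e * (a * (φ k * e * φ k⁻¹) * e) :=
      fun l hl => by
        have m := conj_mem_of_mem_normalizer hk hl.1
        rw [← mul_assoc, he _ m, mul_assoc, mul_assoc a, ← mul_assoc (φ _) a, mA.1 ha _ m, map_mul, map_mul]
        simp only [mul_assoc]
        rw [← mul_assoc (φ k⁻¹), i2, one_mul, ← mul_assoc (φ l), hl.2]
    have y1 : e * (e * (a * (φ k * e * φ k⁻¹) * e)) = e * (a * (φ k * e * φ k⁻¹) * e) := by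
      rw [← mul_assoc, ee]
    have y2 : (e * (a * (φ k * e * φ k⁻¹) * e)) * e = e * (a * (φ k * e * φ k⁻¹) * e) := by
      simp only [mul_assoc, ee]
    generalize e * (a * (φ k * e * φ k⁻¹) * e) = y at yA y1 y2 y3
    obtain ⟨m, hm⟩ := exists_idem_pow y
    by_contra c
    refine hf ⟨_, hm, mA.1 (pow_mem yA _), by rw [pow_succ', ← mul_assoc, y1], by rw [pow_succ, mul_assoc, y2],
      fun c' => c ⟨_, c'⟩, fun c' => kN (mem_normalizer_of_conj_mem fun l hl =>
        ⟨conj_mem_of_mem_normalizer hk hl.1, by rw [← c', pow_succ', ← mul_assoc, y3 l hl]⟩)⟩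
  let E : ℕ → A := fun i => ⟨_, cA _ (pow_mem hL i) e eA⟩
  have jac : ∀ i < r, ∀ j < r, j ≠ i → E i * E j ∈ Ring.jacobson A := fun i hi j hj ij => by
    rw [← Ideal.jacobson_bot, Ideal.mem_jacobson_iff]
    intro a
    have e1 : ρ ^ (r - j + i) = (ρ ^ j)⁻¹ * ρ ^ i := by
      rw [eq_inv_mul_iff_mul_eq, ← pow_add, show j + (r - j + i) = r + i by omega, pow_add, h1, one_mul]
    have := nil _ (pow_mem hL (r - j + i)) (fun c => hN (zpowers_le.2 c (mem_zpowers_pow_iff.2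
      (Nat.Coprime.coprime_dvd_right (orderOf_dvd_of_pow_eq_one h1) (hr.coprime_iff_not_dvd.2 fun d => by
        have := Nat.eq_of_dvd_of_lt_two_mul (by omega) d (by omega)
        omega).symm)))) _ (cA _ (inv_mem (pow_mem hL j)) _ a.2)
    have h2 : IsNilpotent (φ (ρ ^ j)⁻¹ * ((a * (E i * E j) : A) * φ (ρ ^ j))) := by
      convert nilp_comm this using 1
      simp only [e1, E, MulMemClass.coe_mul, map_mul, mul_inv_rev, inv_inv, mul_assoc, i2, mul_one, ee]
      rw [← mul_assoc (φ (ρ ^ j)), i1, one_mul]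
    have h3 := nilp_comm h2
    rw [mul_assoc, i1, mul_one] at h3
    obtain ⟨m, h3⟩ := h3
    obtain ⟨u, hu⟩ := IsNilpotent.isUnit_add_one (⟨m, Subtype.ext h3⟩ : IsNilpotent (a * (E i * E j)))
    exact ⟨↑u⁻¹, by rw [Ideal.mem_bot, mul_assoc, ← mul_add_one, ← hu, Units.inv_mul, sub_self]⟩
  have EU : ∀ i, (E i : R) * (φ ρ ^ i * e) = φ ρ ^ i * e := fun i => by
    simp only [E, ← map_pow, mul_assoc]
    rw [← mul_assoc (φ _⁻¹), i2, one_mul, ee]
  have := (Submodule.fg_span (R := A) ((Set.finite_lt_nat r).image fun i => φ ρ ^ i * e)).eq_bot_of_le_jacobson_smul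
    (Submodule.span_le.2 (by
      rintro _ ⟨i, hi, rfl⟩
      have e2 : (E i : R) * ((∑ j ∈ Finset.range r, φ ρ ^ j) * e) = 0 := by rw [hs, zero_mul, mul_zero]
      rw [Finset.sum_mul, Finset.mul_sum, ← Finset.add_sum_erase _ _ (Finset.mem_range.2 hi), EU,
        add_eq_zero_iff_eq_neg] at e2
      beta_reduce
      rw [e2]
      refine neg_mem (Submodule.sum_mem _ fun j hj => ?_)
      rw [Finset.mem_erase, Finset.mem_range] at hj
      rw [← EU j, ← mul_assoc]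
      exact Submodule.smul_mem_smul (jac i hi j hj.2 hj.1) (Submodule.subset_span ⟨j, hj.2, rfl⟩)))
  have e0 : e = 0 := by simpa using this.le (Submodule.subset_span ⟨0, hr.pos, rfl⟩)
  exact hc fun _ _ _ => by rw [e0, mul_zero]

universe u
variable {Γ : Type u} [Group Γ] [Finite Γ] {p r : ℕ} [hp : Fact p.Prime] [hr : Fact r.Prime]
variable {V B : Subgroup Γ} {ρ : Γ}

theorem Lin0.ks {L V' V'' : Subgroup Γ} (h : Lin0 p r V L ρ) (h1 : V' ⊔ V'' = V) (h2 : V' ⊓ V'' = ⊥)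
    (h3 : L ≤ 𝐍(V')) (h4 : L ≤ 𝐍(V'')) : ρ ∈ 𝐍((L ⊓ 𝐂(V') : Subgroup Γ)) := by
  have cm : ∀ {a b}, a ∈ V → b ∈ V → a * b = b * a := fun ha hb => h.ab.1 hb _ ha
  have l1 : V' ≤ V := h1 ▸ le_sup_left
  have l2 : V'' ≤ V := h1 ▸ le_sup_right
  let _ : CommGroup V := { (inferInstance : Group V) with mul_comm := fun a b => Subtype.ext (cm a.2 b.2) }
  have : Finite (AddMonoid.End (Additive V)) := DFunLike.finite _
  let φ : 𝐍(V) →* AddMonoid.End (Additive V) :=
    { toFun := fun y => MonoidHom.toAdditive (V.normalizerMonoidHom y).toMonoidHom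
      map_one' := by rw [map_one]; rfl
      map_mul' := fun a b => by rw [map_mul]; rfl }
  have hφ : ∀ (y : 𝐍(V)) (b : Additive V), ((φ y b).toMul : Γ) = y * (b.toMul : Γ) * (y : Γ)⁻¹ := fun _ _ => rfl
  have ext : ∀ {b c : Additive V}, (b.toMul : Γ) = c.toMul → b = c := fun h =>
    Additive.toMul.injective (Subtype.ext h)
  choose a ha b hb hab using fun v : V => (mem_sup_of_le_normalizer_left (l2.trans (le_normalizer_of_le_centralizer
    (h.ab.1.trans (centralizer_le l1))))).mp (h1.ge v.2)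
  have uq : ∀ (v : V) a' b', a' ∈ V' → b' ∈ V'' → a' * b' = v → a v = a' := fun v a' b' h5 h6 e => by
    have : a'⁻¹ * a v = b' * (b v)⁻¹ := by rw [inv_mul_eq_iff_eq_mul, ← mul_assoc, e, ← hab v]; group
    exact (inv_mul_eq_one.1 (mem_bot.1 (h2.le (mem_inf.2 ⟨mul_mem (inv_mem h5) (ha v),
      this ▸ mul_mem h6 (inv_mem (hb v))⟩)))).symm
  let e : AddMonoid.End (Additive V) := MonoidHom.toAdditive (MonoidHom.mk' (fun v : V => ⟨a v, l1 (ha v)⟩)
    fun v w => Subtype.ext (uq _ _ _ (mul_mem (ha v) (ha w)) (mul_mem (hb v) (hb w)) (by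
      change a v * a w * _ = (v : Γ) * w
      rw [← hab v, ← hab w, mul_assoc, mul_assoc, ← mul_assoc (a w), ← cm (l2 (hb v)) (l1 (ha w)),
        mul_assoc])))
  have he : ∀ v : Additive V, ((e v).toMul : Γ) = a v.toMul := fun _ => rfl
  have fix : ∀ v : V, (v : Γ) ∈ V' → a v = v := fun v hv => uq v _ 1 hv (one_mem _) (mul_one _)
  refine mem_normalizer_of_conj_mem fun l hl => ⟨conj_mem_of_mem_normalizer h.ρB hl.1, fun v hv => ?_⟩
  have := ks_ring φ (L := L.subgroupOf _) (ρ := ⟨ρ, h.ρV⟩) hr.out (Subtype.ext h.pow) (by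
      refine mem_normalizer_of_conj_mem fun x hx => ?_
      exact mem_subgroupOf.2 (conj_mem_of_mem_normalizer h.ρB (mem_subgroupOf.1 hx))) (by
      have := mul_geom_sum (φ ⟨ρ, h.ρV⟩) r
      rw [← map_pow, show (⟨ρ, h.ρV⟩ : 𝐍(V)) ^ r = 1 from Subtype.ext h.pow, map_one, sub_self, sub_mul, one_mul,
        sub_eq_zero] at this
      refine AddMonoidHom.ext fun v => ext (h.fix _ (Subtype.property _) (mul_inv_eq_iff_eq_mul.1 ?_))
      exact congrArg (fun x : AddMonoid.End (Additive V) => ((x v).toMul : Γ)) this)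
    _ e rfl (AddMonoidHom.ext fun v => ext (fix _ (ha _)))
    (fun x hx => AddMonoidHom.ext fun v => ext (uq _ _ _ (conj_mem_of_mem_normalizer (h3 hx) (ha v.toMul))
      (conj_mem_of_mem_normalizer (h4 hx) (hb v.toMul)) (by
        refine Eq.trans ?_ (hφ x v).symm
        rw [← hab v.toMul, coe_subtype]; group)).symm)
    ⟨l, h.BV hl.1⟩ hl.1 (AddMonoidHom.ext fun v => ext (by
      change l * a v.toMul * l⁻¹ = a v.toMul
      rw [← hl.2 _ (ha _), mul_inv_cancel_right]))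
  have := congrArg (fun x : AddMonoid.End (Additive V) => ((x (.ofMul ⟨v, l1 hv⟩)).toMul : Γ)) this
  change ρ * l * ρ⁻¹ * a _ * (ρ * l * ρ⁻¹)⁻¹ = a _ at this
  rw [fix _ hv] at this
  exact (mul_inv_eq_iff_eq_mul.1 this).symm

end Cfsg.Agent.Lib.Fl
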