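/- The general Hall-Higman-Shult theorem: `ρ` acts on `[V, A]` as an element of the group algebra
of `A`. -/
import Cfsg.Agent.Lib.Fl.LocAb

set_option autoImplicit false
set_option linter.unusedSectionVars false
set_option linter.style.haveILetI false

namespace Cfsg.Agent.Lib.Fl

open Subgroup Module Cfsg.Agent.Lib.Core Cfsg.Agent.Lib.Core.Wt Cfsg.Agent.FT Cfsg.Agent.FT.H6
open Cfsg.Agent.Lib.Glaub Cfsg.Agent.Lib.ZJ
open scoped commutatorElement IsMulCommutative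

section Rep

variable {F W Γ : Type*} [Field F] [AddCommGroup W] [Module F W] [Group Γ]

/-- Every non-trivial root of unity of the right order is an eigenvalue. -/
theorem irred_eig [FiniteDimensional F W] [IsAlgClosed F] [Nontrivial W] [Finite Γ]
    {σ : Representation F Γ W} (hσ : Irred σ) {K : Subgroup Γ} [K.Normal] {x : Γ}
    (hsup : K ⊔ zpowers x = ⊤) (hx : (orderOf x).Prime)
    (hcop : (orderOf x).Coprime (Nat.card K)) (hK : ⁅K, zpowers x⁆ = K)
    (hN : ∀ z ∈ ⁅K, K⁆, ∀ g, σ g * σ z = σ z * σ g) (hc : (Nat.card Γ : F) ≠ 0)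
    (h1 : fix σ K = ⊥) (h2 : fix σ (zpowers x) = ⊥) {l : F} (hl : l ^ orderOf x = 1)
    (hl1 : l ≠ 1) : Module.End.HasEigenvalue (σ x) l := by
  classical
  by_contra hne
  have hxc := Nat.card_zpowers x
  obtain ⟨n, h3, h4⟩ := hσ.exists_mult hsup hN le_rfl (fun r hr hr1 y hy h => by
      refine le_der_of_comm_le (A := zpowers x) le_normalizer_of_normal (hxc ▸ hcop)
        ((zpowers_le.mpr hy).trans (hK.ge.trans le_sup_left)) ?_ (mem_zpowers y)
      rw [← zpowers_eq_of_card_prime (hxc ▸ hx) hr hr1, commutator_le_iff_map_le_centralizer,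
        MonoidHom.map_zpowers, MonoidHom.map_zpowers, cent_zpowers, zpowers_le, mem_C1, eq_comm,
        ← commutatorElement_eq_one_iff_mul_comm, ← map_commutatorElement]
      exact (QuotientGroup.eq_one_iff _).mpr h) hc
    (S := ((Polynomial.nthRootsFinset (orderOf x) (1 : F)).erase 1).erase l) fun c hc =>
      Finset.mem_erase.mpr ⟨fun e => hne (e ▸ hc), Finset.mem_erase.mpr ⟨fun e => by
        obtain ⟨v, hv⟩ := hc.exists_hasEigenvector
        refine hv.2 (h2.le ((mem_fix σ).mpr fun t ht => ?_))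
        obtain ⟨i, rfl⟩ := mem_powers_iff_mem_zpowers.mpr ht
        rw [map_pow, hv.pow_apply, e, one_pow, one_smul], eigenvalue_mem_nthRootsFinset σ hc⟩⟩
  have h5 := sq_sum_le_card_mul_sum_sq
    (s := ((Polynomial.nthRootsFinset (orderOf x) (1 : F)).erase 1).erase l) (f := n)
  have h6 : (((Polynomial.nthRootsFinset (orderOf x) (1 : F)).erase 1).erase l).card + 1 + 1 ≤
      orderOf x := by
    rw [Finset.card_erase_add_one (Finset.mem_erase.mpr
        ⟨hl1, (Polynomial.mem_nthRootsFinset hx.pos _).mpr hl⟩),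
      Finset.card_erase_add_one ((Polynomial.mem_nthRootsFinset hx.pos _).mpr (one_pow _))]
    exact card_nthRootsFinset_le F _
  have h7 : finrank F W ≤
      ∑ c ∈ ((Polynomial.nthRootsFinset (orderOf x) (1 : F)).erase 1).erase l, n c ^ 2 :=
    h3 ▸ Finset.sum_le_sum fun c _ => Nat.le_self_pow two_ne_zero _
  have h8 := one_le_finrank_fix (σ := σ) K
  have h9 : 1 ≤ finrank F W := Module.finrank_pos
  rw [h3, Nat.cast_id] at h5
  have h10 : finrank F W ≤ 1 := by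
    generalize (((Polynomial.nthRootsFinset (orderOf x) (1 : F)).erase 1).erase l).card = s at h5 h6
    generalize ∑ c ∈ ((Polynomial.nthRootsFinset (orderOf x) (1 : F)).erase 1).erase l,
      n c ^ 2 = m at *
    generalize finrank F (fix (σ.linHom σ) K) = e at *
    generalize finrank F W = d at *
    generalize orderOf x = r at *
    have h11 : 2 * m + e ≤ r := by nlinarith
    obtain ⟨t, rfl⟩ := Nat.exists_eq_add_of_le (show 2 * d + 1 ≤ r by omega)
    obtain ⟨d, rfl⟩ := Nat.exists_eq_add_of_le h9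
    rcases Nat.eq_zero_or_pos d with rfl | h13
    · exact le_rfl
    · exfalso
      nlinarith
  obtain ⟨v, hv⟩ := exists_ne (0 : W)
  exact absurd (h1.le ((mem_fix σ).mpr fun t ht => LinearMap.congr_fun
    (rep_der_eq_one_of_finrank_le_one h10 σ (commutator_mono le_top le_top (hK.ge ht))) v)) hv

theorem exists_irred_le [FiniteDimensional F W] (σ : Representation F Γ W) {Y : Submodule F W}
    (h0 : Y ≠ ⊥) (hY : ∀ g, Y ≤ Y.comap (σ g)) : ∃ (U : Submodule F W)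
      (hU : ∀ g, U ≤ U.comap (σ g)), U ≠ ⊥ ∧ U ≤ Y ∧ Irred (σ.subrepresentation U hU) := by
  obtain ⟨U, ⟨h2, h3, h4⟩, h5⟩ := WellFounded.has_min (wellFounded_lt (α := Submodule F W))
    {U | U ≠ ⊥ ∧ U ≤ Y ∧ ∀ g, U ≤ U.comap (σ g)} ⟨Y, h0, le_rfl, hY⟩
  refine ⟨U, h4, h2, h3, fun X hX => or_iff_not_imp_left.mpr fun h0 => ?_⟩
  by_contra h6
  refine h5 (X.map U.subtype) ⟨fun h => h0 ?_, (U.map_subtype_le X).trans h3, ?_⟩
    ((U.map_subtype_le X).lt_of_ne fun h => h6 ?_)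
  · exact Submodule.map_injective_of_injective U.injective_subtype (h.trans (by simp))
  · rintro g _ ⟨v, hv, rfl⟩
    exact ⟨_, hX g hv, rfl⟩
  · exact Submodule.map_injective_of_injective U.injective_subtype (h.trans (by simp))

/-- An endomorphism commuting with `K` commutes with `x`. -/
theorem rep_comm [FiniteDimensional F W] [IsAlgClosed F] [Finite Γ]
    (σ : Representation F Γ W) {K : Subgroup Γ} [K.Normal] {x : Γ}
    (hsup : K ⊔ zpowers x = ⊤) (hx : (orderOf x).Prime)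
    (hcop : (orderOf x).Coprime (Nat.card K)) (hK : ⁅K, zpowers x⁆ = K)
    (hN : ∀ z ∈ ⁅K, K⁆, ∀ g, σ g * σ z = σ z * σ g) (hc : (Nat.card Γ : F) ≠ 0)
    (h1 : fix σ K = ⊥) (h2 : fix σ (zpowers x) = ⊥) {T₀ : Module.End F W}
    (hT : ∀ y ∈ K, σ y * T₀ = T₀ * σ y) : σ x * T₀ = T₀ * σ x := by
  classical
  by_contra hne
  have hr : (orderOf x : F) ≠ 0 := fun e => hc (by
    obtain ⟨c, h⟩ := orderOf_dvd_natCard x
    rw [h, Nat.cast_mul, e, zero_mul])
  have hE : ∀ g, fix (σ.linHom σ) K ≤ (fix (σ.linHom σ) K).comap (σ.linHom σ g) := fun g T hT =>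
    (mem_fix _).mpr fun t ht => by
      have := (mem_fix _).mp hT (g⁻¹ * t * g⁻¹⁻¹) (Normal.conj_mem inferInstance t ht g⁻¹)
      rw [← Module.End.mul_apply, ← map_mul, show t * g = g * (g⁻¹ * t * g⁻¹⁻¹) by group, map_mul,
        Module.End.mul_apply, this]
  obtain ⟨l, T, T0, hl, l1⟩ := exists_wt (σ := (σ.linHom σ).subrepresentation _ hE)
    (A := zpowers x) inferInstance (by rwa [Nat.card_zpowers]) (a := ⟨x, mem_zpowers x⟩) fun e => by
      have e1 : σ x * (T₀ * σ x⁻¹) = T₀ :=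
        congrArg Subtype.val (LinearMap.congr_fun e ⟨T₀, (mem_fix_linHom σ).mpr hT⟩)
      refine hne ?_
      rw [← e1, mul_assoc, mul_assoc, ← map_mul, inv_mul_cancel, map_one, mul_one, e1]
  have e1 : σ x * ((T : Module.End F W) * σ x⁻¹) = ((l ⟨x, mem_zpowers x⟩ : Fˣ) : F) • T.1 :=
    congrArg Subtype.val (hl ⟨x, mem_zpowers x⟩)
  have l2 : ((l ⟨x, mem_zpowers x⟩ : Fˣ) : F) ^ orderOf x = 1 := by
    rw [← Units.val_pow_eq_pow_val, ← map_pow]
    have : (⟨x, mem_zpowers x⟩ : zpowers x) ^ orderOf x = 1 := Subtype.ext (pow_orderOf_eq_one x)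
    rw [this, map_one, Units.val_one]
  have l3 : ((l ⟨x, mem_zpowers x⟩ : Fˣ) : F) ≠ 1 := fun e => l1 (Units.ext e)
  have l0 : ((l ⟨x, mem_zpowers x⟩ : Fˣ) : F) ≠ 0 := Units.ne_zero _
  generalize ((l ⟨x, mem_zpowers x⟩ : Fˣ) : F) = c at e1 l2 l3 l0
  obtain ⟨T, hTK⟩ := T
  have T1 : T ≠ 0 := fun e => T0 (Subtype.ext e)
  rw [mem_fix_linHom] at hTK
  have e2 : ∀ w, σ x (T w) = c • T (σ x w) := fun w => by
    have := LinearMap.congr_fun e1 (σ x w)
    rwa [Module.End.mul_apply, Module.End.mul_apply, ← Module.End.mul_apply (σ x⁻¹), ← map_mul,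
      inv_mul_cancel, map_one, Module.End.one_apply, LinearMap.smul_apply] at this
  have hY : ∀ g, LinearMap.range T ≤ (LinearMap.range T).comap (σ g) := fun g => by
    have hg : g ∈ K ⊔ zpowers x := hsup ▸ mem_top g
    obtain ⟨k, hk, t, ht, rfl⟩ := mem_sup_of_normal_left.mp hg
    obtain ⟨i, rfl⟩ := mem_powers_iff_mem_zpowers.mpr ht
    rintro _ ⟨w, rfl⟩
    have h3 : ∀ i : ℕ, σ (x ^ i) (T w) ∈ LinearMap.range T := fun i => by
      induction i with
      | zero => exact ⟨w, by simp⟩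
      | succ i ih =>
        obtain ⟨w', hw'⟩ := ih
        rw [pow_succ', map_mul, Module.End.mul_apply, ← hw', e2]
        exact Submodule.smul_mem _ _ ⟨_, rfl⟩
    obtain ⟨w', hw'⟩ := h3 i
    change σ (k * x ^ i) (T w) ∈ LinearMap.range T
    rw [map_mul, Module.End.mul_apply, ← hw', ← Module.End.mul_apply, hTK k hk]
    exact ⟨_, rfl⟩
  obtain ⟨U, hU, U0, UY, hi⟩ := exists_irred_le σ (mt LinearMap.range_eq_bot.mp T1) hY
  haveI := Submodule.nontrivial_iff_ne_bot.mpr U0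
  have hfx : ∀ S : Subgroup Γ, fix σ S = ⊥ → fix (σ.subrepresentation U hU) S = ⊥ := fun S hS =>
    eq_bot_iff.mpr fun v hv => Subtype.ext (hS.le ((mem_fix σ).mpr fun t ht =>
      congrArg Subtype.val ((mem_fix _).mp hv t ht)))
  obtain ⟨⟨y, hy⟩, hv⟩ := (irred_eig hi hsup hx hcop hK (fun z hz g => LinearMap.ext fun v =>
    Subtype.ext (LinearMap.congr_fun (hN z hz g) v)) hc (hfx _ h1) (hfx _ h2) l2
      l3).exists_hasEigenvector
  obtain ⟨w, rfl⟩ := UY hy
  have e3 : σ x (T w) = c • T w := congrArg Subtype.val hv.apply_eq_smul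
  have e4 : ∀ w', T w' = T w → T (σ x w') = T w := fun w' e =>
    smul_right_injective W l0 (by simp only []; rw [← e2, e, e3])
  have e5 : ∀ i : ℕ, T (σ (x ^ i) w) = T w := fun i => by
    induction i with
    | zero => simp
    | succ i ih => rw [pow_succ', map_mul, Module.End.mul_apply]; exact e4 _ ih
  have e6 : ∑ i ∈ Finset.range (orderOf x), σ (x ^ i) w = 0 := by
    refine (Submodule.mem_bot F).mp (h2.le ((mem_fix σ).mpr fun t ht => ?_))
    obtain ⟨i, rfl⟩ := mem_powers_iff_mem_zpowers.mpr ht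
    have e7 : σ x (∑ i ∈ Finset.range (orderOf x), σ (x ^ i) w) =
        ∑ i ∈ Finset.range (orderOf x), σ (x ^ i) w := by
      have := Finset.sum_range_succ' (fun i => σ (x ^ i) w) (orderOf x)
      rw [Finset.sum_range_succ, pow_orderOf_eq_one, pow_zero] at this
      rw [map_sum, add_right_cancel this]
      exact Finset.sum_congr rfl fun i _ => by rw [pow_succ', map_mul, Module.End.mul_apply]
    change σ (x ^ i) _ = _
    induction i with
    | zero => simp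
    | succ i ih => rw [pow_succ, map_mul, Module.End.mul_apply, e7]; exact ih (pow_mem (mem_zpowers x) i)
  have e8 := congrArg T e6
  rw [map_sum, Finset.sum_congr rfl fun i _ => e5 i, Finset.sum_const, Finset.card_range, map_zero,
    ← Nat.cast_smul_eq_nsmul F, smul_eq_zero, or_iff_right hr] at e8
  exact hv.2 (Subtype.ext e8)

end Rep

universe u
variable {Γ : Type u} [Group Γ] [Finite Γ] {p r : ℕ} [hp : Fact p.Prime] [hr : Fact r.Prime]
variable {V B : Subgroup Γ} {ρ : Γ}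

theorem Lin.mM (hp2 : p ≠ 2) {A U : Subgroup Γ} (h : Lin p r V A ρ) (hA : IsPGroup 2 A)
    (he : ⁅A, zpowers ρ⁆ = A) (hU : U ≤ 𝐂(A)) (hUV : U ≤ 𝐍(V)) :
    ⁅U, zpowers ρ⁆ ≤ 𝐂(⁅V, A⁆) := by
  by_cases h1 : ρ = 1
  · rw [h1, zpowers_one_eq_bot, commutator_bot_right]
    exact bot_le
  by_cases hV1 : V = ⊥
  · rw [hV1, commutator_bot_left, cent_bot]
    exact le_top
  haveI : Fact (Nat.Prime 2) := ⟨Nat.prime_two⟩
  have hpA : ¬ p ∣ Nat.card A := not_dvd_of_isPGroup_ne (Ne.symm hp2) hA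
  have hR := h.prime h1
  have hn : zpowers ρ ≤ 𝐍(V) := zpowers_le.mpr h.ρV
  have hRA : zpowers ρ ≤ 𝐍(A) := zpowers_le.mpr h.ρB
  have hpR := not_dvd_card_of_fpf hR h.abelem hV1 hn h.inf_cent
  obtain ⟨-, s2, s3⟩ := h.special hpA
  rw [he] at s2 s3
  have hV' : ⁅V, A⁆ ≤ V := comm_le_left h.BV
  have hpV : IsPGroup p V := abelem_isPGroup h.abelem
  have hE : IsElementaryAbelian p ⁅V, A⁆ := (h.toLin0.sub hV'
    (zpowers_le.mp (le_normalizer_commutator hn hRA)) (right_le_norm_comm V A)).abelem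
  have c1 : ⁅V, A⁆ ⊓ 𝐂(A) = ⊥ := by
    rw [inf_comm]
    exact inf_centralizer_inf_commutator_eq_bot h.abelem.1 h.BV
      (coprime_card_of_isPGroup hpV hpA).symm
  have c2 : ⁅V, A⁆ ⊓ 𝐂(zpowers ρ) = ⊥ :=
    le_bot_iff.mp ((inf_le_inf_right _ hV').trans h.inf_cent.le)
  have n1 : A ≤ 𝐍(⁅V, A⁆) := right_le_norm_comm V A
  have n2 : zpowers ρ ≤ 𝐍(⁅V, A⁆) := le_normalizer_commutator hn hRA
  have n3 : U ≤ 𝐍(⁅V, A⁆) := le_normalizer_commutator hUV (hU.trans (cent_le_norm A))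
  generalize ⁅V, A⁆ = V₁ at hE c1 c2 n1 n2 n3 ⊢
  obtain ⟨W, _, _, _, σ, f1, f2⟩ := exists_rep hE (L := 𝐍(V₁)) le_rfl
  have hL : A ⊔ zpowers ρ ≤ 𝐍(V₁) := sup_le n1 n2
  have hfix : ∀ T ≤ A ⊔ zpowers ρ, V₁ ⊓ 𝐂(T) = ⊥ →
      fix (σ.comp (inclusion hL)) (T.subgroupOf (A ⊔ zpowers ρ)) = ⊥ := fun T hT hC => by
    have := f1 T (hT.trans hL)
    rw [hC, card_bot, Nat.pow_eq_one, or_iff_right hp.out.ne_one, Submodule.finrank_eq_zero] at this
    exact eq_bot_iff.mpr fun v hv => this.le ((mem_fix σ).mpr fun t ht =>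
      (mem_fix _).mp hv ⟨t, hT ht⟩ ht)
  have hxL : ρ ∈ A ⊔ zpowers ρ := mem_sup_right (mem_zpowers ρ)
  have hx' : (zpowers ρ).subgroupOf (A ⊔ zpowers ρ) = zpowers ⟨ρ, hxL⟩ := by
    rw [← bar_id, bar_zpowers' _ hxL]; rfl
  have hxo : orderOf (⟨ρ, hxL⟩ : ↥(A ⊔ zpowers ρ)) = Nat.card (zpowers ρ) := by
    rw [Nat.card_zpowers]; exact (orderOf_coe (⟨ρ, hxL⟩ : ↥(A ⊔ zpowers ρ))).symm
  haveI := (Nrm.sup_left hRA).normal_subgroupOf
  have hcK := card_subgroupOf (le_sup_left : A ≤ A ⊔ zpowers ρ)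
  have hsd := sdp_sup hRA (coprime_inf_eq_bot h.coprime)
  have hZ : A ⊔ zpowers ρ ≤ 𝐂(⁅A, A⁆) :=
    sup_le (cent_comm.mp (s2.le.trans inf_le_right))
      (cent_comm.mp (s2.le.trans (s3.ge.trans inf_le_right)))
  refine commutator_le.mpr fun u hu t ht => ?_
  have key := rep_comm (σ.comp (inclusion hL)) (x := ⟨ρ, hxL⟩) (K := A.subgroupOf _) (by
      rw [← hx', ← subgroupOf_sup le_sup_left le_sup_right, subgroupOf_self]) (hxo ▸ hR)
    (hxo ▸ hcK ▸ h.coprime.symm)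
    (by rw [← hx', ← subgroupOf_commutator le_sup_left le_sup_right, he]) (fun z hz g => by
      rw [← subgroupOf_commutator le_sup_left le_sup_left] at hz
      rw [← map_mul, ← map_mul]
      exact congrArg _ (Subtype.ext (hZ g.2 z hz).symm))
    (cast_ne_zero_of_not_dvd (by
      rw [← hsd.card, hp.out.dvd_mul]; exact not_or.mpr ⟨hpA, hpR⟩))
    (hfix A le_sup_left c1) (hx' ▸ hfix _ le_sup_right c2) (T₀ := σ ⟨u, n3 hu⟩) fun y hy => by
      change σ _ * _ = _ * σ _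
      rw [← map_mul, ← map_mul]
      exact congrArg _ (Subtype.ext (hU hu y hy))
  have key' : Commute (σ ⟨ρ, hL hxL⟩) (σ ⟨u, n3 hu⟩) := key
  obtain ⟨i, rfl⟩ := mem_powers_iff_mem_zpowers.mpr ht
  have e : σ (⟨u, n3 hu⟩ * ⟨ρ, hL hxL⟩ ^ i) = σ (⟨ρ, hL hxL⟩ ^ i * ⟨u, n3 hu⟩) := by
    rw [map_mul, map_mul, map_pow, (key'.pow_left i).eq]
  refine (f2 ⁅(⟨u, n3 hu⟩ : 𝐍(V₁)), ⟨ρ, hL hxL⟩ ^ i⁆).mp ?_
  rw [commutatorElement_def, mul_assoc, map_mul, e, ← map_mul, ← mul_inv_rev, mul_inv_cancel,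
    map_one]

end Cfsg.Agent.Lib.Fl
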