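/- HHS, piece HLi: irreducible configurations and the general `ZC`. -/
import Cfsg.Agent.Lib.Fl.HRed
import Cfsg.Agent.Lib.Fl.GIrr
import Cfsg.Agent.Lib.Fl.CSp
import Cfsg.Agent.Lib.Fl.HM

set_option autoImplicit false
set_option linter.unusedSectionVars false
set_option linter.style.haveILetI false

namespace Cfsg.Agent.Lib.Fl

open Subgroup Cfsg.Agent.Lib.Core Cfsg.Agent.Lib.Glaub Cfsg.Agent.Lib.ZJ Cfsg.Agent.FT
open scoped commutatorElement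

universe u
variable {Γ : Type u} [Group Γ] [Finite Γ] {p r : ℕ} [hp : Fact p.Prime] [hr : Fact r.Prime]
variable {V B : Subgroup Γ} {ρ : Γ}

theorem LI.fixz (h : LI p r V B ρ) {z : Γ} (hz : z ∈ B ⊓ 𝐂(B)) (hρ : ρ * z = z * ρ)
    (h1 : z ≠ 1) : V ⊓ 𝐂(zpowers z) = ⊥ := h.toIrr.fixz hz hρ h1

theorem LI.isES (hp2 : p ≠ 2) (h : LI p r V B ρ) {A : Subgroup Γ} (hAB : A ≤ B)
    (hA : IsPGroup 2 A) (he : ⁅A, zpowers ρ⁆ = A) (hne : A ≠ ⊥) (hc : ⁅A, A⁆ ≤ 𝐂(B)) :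
    ∃ z ∈ B ⊓ 𝐂(B), PGroup.IsES 2 z A ∧ A ⊓ 𝐂(zpowers ρ) = zpowers z ∧
      Nat.card A = 2 * (r - 1) ^ 2 := h.toIrr.isES hp2 hAB hA he hne hc

theorem LI.ab' (hp2 : p ≠ 2) (h : LI p r V B ρ) {A U : Subgroup Γ} (hAB : A ≤ B) (hA : IsPGroup 2 A)
    (he : ⁅A, zpowers ρ⁆ = A) (hne : A ≠ ⊥) (hc : ⁅A, A⁆ ≤ 𝐂(B)) (hUB : U ≤ B) (hU : IsPGroup 2 U)
    (hρ : ρ ∈ 𝐍(U)) (hUA : ⁅U, A⁆ ≤ 𝐂(B)) : ⁅U, zpowers ρ⁆ ≤ A :=
  h.toIrr.ab' hp2 hAB hA he hne hc hUB hU hρ hUA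

theorem LI.zc' (hp2 : p ≠ 2) (h : LI p r V B ρ) {A : Subgroup Γ} (hAB : A ≤ B) (hA : IsPGroup 2 A)
    (he : ⁅A, zpowers ρ⁆ = A) (hne : A ≠ ⊥) (hc : ⁅A, A⁆ ≤ 𝐂(B)) {c : Γ} (hcB : c ∈ B)
    (hcA : c ∈ 𝐍(A)) (hcρ : ρ * c = c * ρ) (ho : Odd (orderOf c)) : c ∈ 𝐂(A) :=
  h.toIrr.zc' hp2 hAB hA he hne hc hcB hcA hcρ ho

theorem Lin.zc (hp2 : p ≠ 2) {A : Subgroup Γ} (h : Lin p r V A ρ) (hA : IsPGroup 2 A)
    (he : ⁅A, zpowers ρ⁆ = A)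
    (hz : ∀ a ∈ A ⊓ 𝐂(A), ∀ b ∈ A ⊓ 𝐂(A), a ≠ 1 → b ≠ 1 → a * a = 1 → b * b = 1 → a = b)
    {c : Γ} (hcA : c ∈ 𝐍(A)) (hcρ : ρ * c = c * ρ) (ho : Odd (orderOf c)) (hcr : ¬ r ∣ orderOf c) :
    c ∈ 𝐂(A) := by
  by_cases hne : A = ⊥
  · rw [hne, cent_bot]; exact mem_top c
  obtain ⟨z, hs, -, hCρ, hcard⟩ := h.isES hp2 hA he hne hz
  have hρA : zpowers ρ ≤ 𝐍(A) := zpowers_le.mpr h.ρB
  have two : ∀ a ∈ zpowers z, a ≠ 1 → a = z := fun a ha a1 =>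
    ((PGroup.mem_zpowers_iff_of_orderOf_two hs.ord).mp ha).resolve_left a1
  have hNz : 𝐍(A) ≤ 𝐂(zpowers z) := fun k hk => by
    have e : k * z * k⁻¹ = z := two _ (hs.center.le (conj_mem_of_mem_normalizer
      (norm_le_norm_Zc A hk) (hs.center.ge (mem_zpowers z)))) (by simpa using hs.ne_one)
    rw [cent_zpowers]
    exact mem_C1.mpr (mul_inv_eq_iff_eq_mul.mp e)
  have free : ∀ {q : ℕ} [Fact q.Prime] {P : Subgroup Γ}, IsPGroup q P → P ≤ 𝐍(A) →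
      A ⊓ 𝐂(P) ≤ zpowers z → q ∣ {g | g ∈ A ∧ g ^ 2 = z}.ncard :=
    fun hP a d => dvd_ncard_of_free hP _ (fun k hk x hx => ⟨conj_mem_of_mem_normalizer (a hk) hx.1,
      by rw [conj_pow, hx.2, ← hNz (a hk) z (mem_zpowers z), mul_inv_cancel_right]⟩)
      fun x hx e => hs.ne_one (hx.2.symm.trans (hs.pow_eq_one (d ⟨hx.1, e⟩)))
  have f1 : r ∣ _ := free (isPGroup_zpowers (k := 1) (by rw [pow_one, h.pow])) hρA hCρ.le
  refine zpowers_le.mp (le_of_forall_isSyl fun q hq => ?_)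
  haveI := Fact.mk hq
  obtain ⟨P, hP⟩ := exists_isSyl q (zpowers c)
  refine ⟨P, hP, ?_⟩
  by_contra hn
  have hd : q ∣ Nat.card (zpowers c) := by
    by_contra e
    exact hn ((hP.eq_bot e).le.trans bot_le)
  have hPA : P ≤ 𝐍(A) := hP.le.trans (zpowers_le.mpr hcA)
  have hPρ : zpowers ρ ≤ 𝐂(P) := cent_comm.mp (hP.le.trans (zpowers_le.mpr (by
    rw [cent_zpowers]; exact mem_C1.mpr hcρ.symm)))
  have hn0 : zpowers ρ ≤ 𝐍((A ⊓ 𝐂(P) : Subgroup Γ)) := le_normalizer_inf hρA (le_normalizer_of_le hPρ)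
  have h1 : ⁅A ⊓ 𝐂(P), zpowers ρ⁆ = ⊥ := by
    by_contra e
    have a1 := comm_le_left hn0
    have a2 := a1.trans inf_le_left
    have a4 := (coprimeAct_zpowers h.pow (hn0 (mem_zpowers ρ)) fun e => h.cop (e.trans
      (card_dvd_of_le inf_le_left))).commutator_commutator
    have l := h.mono a2 (right_le_norm_comm _ _ (mem_zpowers ρ))
    have a5 := (l.special (not_dvd_of_isPGroup_ne hp2.symm (hA.to_le a2))).2.2
    rw [a4] at a5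
    have a6 := a5.ge.trans ((inf_le_inf_right _ a2).trans hCρ.le)
    obtain ⟨-, -, -, -, a3⟩ := l.isES hp2 (hA.to_le a2) a4 e fun a ha b hb a1 b1 _ _ =>
      (two a (a6 ha) a1).trans (two b (a6 hb) b1).symm
    exact hn (cent_comm.mp ((eq_of_le_of_card_ge a2 (hcard.trans a3.symm).le).ge.trans
      (a1.trans inf_le_right)))
  have f2 : q ∣ _ := free hP.isPGroup hPA
    ((le_inf inf_le_left (comm_eq_bot_iff.mp h1)).trans hCρ.le)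
  rw [Nat.card_zpowers] at hd
  have q2 : ¬ q ∣ 2 := fun e => by
    rw [(Nat.prime_dvd_prime_iff_eq hq Nat.prime_two).mp e] at hd
    exact (Nat.not_even_iff_odd.mpr ho) (even_iff_two_dvd.mpr hd)
  have qr : ¬ q ∣ r := fun e => hcr ((Nat.prime_dvd_prime_iff_eq hq hr.out).mp e ▸ hd)
  obtain ⟨m, m1, m2⟩ := hs.exists_invCount
  have m3 := hs.invCount_add
  have m4 : r = 2 ^ m + 1 := by
    have : (r - 1) ^ 2 = (2 ^ m) ^ 2 := by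
      have := hcard.symm.trans m1
      rw [pow_succ 2, mul_comm 2 m, pow_mul] at this
      omega
    have := (Nat.pow_left_injective two_ne_zero) this
    have := hr.out.one_lt
    omega
  have m5 : 2 ^ m ≠ 1 := fun e => hne (by
    have e2 : A = zpowers z := hs.eq_zpowers_iff.mpr (by rw [hcard, m4, e]; rfl)
    rw [← he]
    exact comm_eq_bot_iff.mpr (e2.le.trans (hCρ.ge.trans inf_le_right)))
  rw [m1, pow_succ] at m3
  rw [mul_comm 2 m, pow_mul, sq] at m2 m3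
  have m6 : ¬ q ∣ 2 ^ m := fun e => q2 (hq.dvd_of_dvd_pow e)
  have m7 : 0 < 2 ^ m := Nat.two_pow_pos m
  generalize {g | g ∈ A ∧ g ^ 2 = z}.ncard = N at f1 f2 m3
  generalize 2 ^ m = t at m2 m3 m4 m5 m6 m7
  rcases m2 with m2 | m2
  · obtain ⟨s, rfl⟩ : ∃ s, t = s + 2 := ⟨t - 2, by omega⟩
    have : N = (s + 2) * (s + 1) := by nlinarith
    rw [this] at f1
    rcases (Nat.Prime.dvd_mul hr.out).mp f1 with e | e <;>
      have := Nat.le_of_dvd (by omega) e <;> omega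
  · have : N = t * r := by rw [m4]; nlinarith
    rw [this] at f2
    exact ((Nat.Prime.dvd_mul hq).mp f2).elim m6 qr

/-- an element of `A ⊓ Z(B)` other than 1 forces `C_V(A) = 1`, so `V = [V,A]`, and M applies -/
theorem LI.cent_of_mem (hp2 : p ≠ 2) (h : LI p r V B ρ) {A U : Subgroup Γ} (hAB : A ≤ B)
    (hA : IsPGroup 2 A) (he : ⁅A, zpowers ρ⁆ = A) {z : Γ} (hz : z ∈ A ⊓ 𝐂(B)) (hρ : ρ * z = z * ρ)
    (h1 : z ≠ 1) (hU : U ≤ B ⊓ 𝐂(A)) (hρU : ρ ∈ 𝐍(U)) : ρ ∈ 𝐂(U) := by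
  have h2 : V ⊓ 𝐂(A) = ⊥ := le_bot_iff.mp ((inf_le_inf_left V
    (centralizer_le (zpowers_le.mpr hz.1))).trans (h.fixz ⟨hAB hz.1, hz.2⟩ hρ h1).le)
  have h3 := (coprimeAct_of_isPGroup_right (not_dvd_of_isPGroup_ne hp2.symm hA)
    (isPGroup_of_forall_pow fun x hx => ⟨1, by rw [pow_one]; exact h.ab.2 x hx⟩)
    (hAB.trans h.BV)).inf_centralizer_sup_commutator
  rw [h2, bot_sup_eq] at h3
  have h4 := (h.toLin.mono hAB (he ▸ right_le_norm_comm A _ (mem_zpowers ρ))).mM hp2 hA he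
    (hU.trans inf_le_right) (hU.trans (inf_le_left.trans h.BV))
  rw [h3] at h4
  exact mem_cent_iff_le.mpr (comm_eq_bot_iff.mp (le_bot_iff.mp ((le_inf ((comm_le_left
    (zpowers_le.mpr hρU)).trans (hU.trans inf_le_left)) h4).trans h.faith.le)))

end Cfsg.Agent.Lib.Fl
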