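/-
The general Hall-Higman-Shult theorem: the second case of the uniqueness argument.
-/
import Cfsg.Agent.Lib.Fl.HRed
import Cfsg.Agent.Lib.Fl.HLi
import Cfsg.Agent.Lib.Fl.HKs
import Cfsg.Agent.Lib.Fl.HM
import Cfsg.Agent.Lib.Fl.CS0
import Cfsg.Agent.Lib.Glaub.Compl
import Cfsg.Agent.Lib.Core.TransferExt

set_option autoImplicit false
set_option linter.unusedSectionVars false

namespace Cfsg.Agent.Lib.Fl

open Subgroup Cfsg.Agent.Lib.Core Cfsg.Agent.Lib.Glaub Cfsg.Agent.Lib.ZJ Cfsg.Agent.FT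
open scoped commutatorElement

/-- The uniqueness configuration. -/
structure NP {Γ : Type*} [Group Γ] (p r : ℕ) (V B : Subgroup Γ) (ρ : Γ) (D H : Subgroup Γ) : Prop
    extends Min2 p r V B ρ where
  hZ : ∀ N < B, B ≤ 𝐍(N) → ρ ∈ 𝐍(N) → N ≤ 𝐂(B)
  fr : ∃ T, IsSyl 2 T B ∧ ρ ∈ 𝐍(T) ∧ D = ⁅T, zpowers ρ⁆
  lt : H < B
  inv : ρ ∈ 𝐍(H)
  le : D ≤ H
  ne : ⁅OpOf p H, zpowers ρ⁆ ≠ ⊥
  uq : ∀ H1 < B, ρ ∈ 𝐍(H1) → D ≤ H1 → ⁅OpOf p H, zpowers ρ⁆ ≤ H1 → H1 ≤ H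

universe u
variable {Γ : Type u} [Group Γ] [Finite Γ] {p r : ℕ} [hp : Fact p.Prime] [hr : Fact r.Prime]
variable {V B D H X S : Subgroup Γ} {ρ : Γ}

theorem Lin0.act' (h : Lin0 p r V B ρ) {K : Subgroup Γ} (hK : K ≤ B) (n : zpowers ρ ≤ 𝐍(K)) :
    CoprimeAct (zpowers ρ) K :=
  coprimeAct_zpowers h.pow (n (mem_zpowers ρ)) (not_dvd_card_of_le h.cop hK)

theorem Lin0.fr_max (h : Lin0 p r V B ρ) {T U : Subgroup Γ} (hT : IsSyl 2 T B) (n : ρ ∈ 𝐍(T))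
    (hU : U ≤ B) (h2 : IsPGroup 2 U) (nU : ρ ∈ 𝐍(U)) (hD : ⁅T, zpowers ρ⁆ ≤ U) :
    ⁅U, zpowers ρ⁆ = ⁅T, zpowers ρ⁆ := by
  have a := h.act' le_rfl (zpowers_le.mpr h.ρB)
  obtain ⟨T', hT', n', l⟩ := a.exists_isSyl_ge h2 hU (zpowers_le.mpr nU)
  refine le_antisymm ((commutator_mono l le_rfl).trans
    (comm_eq_of_syl a hT hT' (zpowers_le.mpr n) n' (hD.trans l)).le) ?_
  rw [← (h.act' hT.le (zpowers_le.mpr n)).commutator_commutator]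
  exact commutator_mono hD le_rfl

theorem Min2.star' (h : Min2 p r V B ρ) (hH : H < B) (hρ : ρ ∈ 𝐍(H)) (hX : X ≤ H)
    (hp' : IsPGroup p X) (hρX : ρ ∈ 𝐍(X)) : ⁅X, zpowers ρ⁆ ≤ ⁅OpOf p H, zpowers ρ⁆ := by
  rw [← (h.act' (hX.trans hH.le) (zpowers_le.mpr hρX)).commutator_commutator]
  exact commutator_mono (h.star hH hρ hX hp' hρX) le_rfl

theorem Min2.comm_syl (h : Min2 p r V B ρ) (hH : H < B) (hρ : ρ ∈ 𝐍(H)) (hX : IsSyl p X H)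
    (hρX : ρ ∈ 𝐍(X)) : ⁅X, zpowers ρ⁆ = ⁅OpOf p H, zpowers ρ⁆ :=
  le_antisymm (h.star' hH hρ hX.le hX.isPGroup hρX) (commutator_mono (OpOf_le_of_isSyl hX) le_rfl)

theorem Min2.comm_eq' (h : Min2 p r V B ρ) (hH : H < B) (hρ : ρ ∈ 𝐍(H)) {T : Subgroup Γ}
    (hT : IsSyl 2 T H) (n : ρ ∈ 𝐍(T)) :
    ⁅H, zpowers ρ⁆ = ⁅OpOf p H, zpowers ρ⁆ ⊔ ⁅T, zpowers ρ⁆ := by
  obtain ⟨X, hX, nX⟩ := (h.act' hH.le (zpowers_le.mpr hρ)).exists_isSyl p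
  rw [h.toLin.comm_eq_sup hH.le hρ hT n hX (nX (mem_zpowers ρ)),
    h.comm_syl hH hρ hX (nX (mem_zpowers ρ))]

theorem Min2.comm_eq (h : Min2 p r V B ρ) (hH : H < B) (hρ : ρ ∈ 𝐍(H)) {T : Subgroup Γ}
    (hT : IsSyl 2 T B) (n : ρ ∈ 𝐍(T)) (hD : ⁅T, zpowers ρ⁆ ≤ H) :
    ⁅H, zpowers ρ⁆ = ⁅OpOf p H, zpowers ρ⁆ ⊔ ⁅T, zpowers ρ⁆ := by
  obtain ⟨T', hT', n', l⟩ := (h.act' hH.le (zpowers_le.mpr hρ)).exists_isSyl_ge
    (hT.isPGroup.to_le (comm_le_left (zpowers_le.mpr n))) hD (right_le_norm_comm _ _)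
  rw [h.comm_eq' hH hρ hT' (n' (mem_zpowers ρ)),
    h.fr_max hT n (hT'.le.trans hH.le) hT'.isPGroup (n' (mem_zpowers ρ)) l]

theorem LI.norm_lt (h : LI p r V B ρ) {P : Subgroup Γ} (hP : IsPGroup p P) (hPB : P ≤ B)
    (hρ : ρ ∈ 𝐍(P)) (h0 : P ≠ ⊥) : B ⊓ 𝐍(P) < B :=
  lt_of_le_of_ne inf_le_left fun e => h0 (h.eq_bot' hP hPB (inf_eq_left.mp e) hρ)

theorem Lin0.nN (h : Lin0 p r V B ρ) {E : Subgroup Γ} (a : zpowers ρ ≤ 𝐍(E)) : ρ ∈ 𝐍(B ⊓ 𝐍(E)) :=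
  le_normalizer_inf (zpowers_le.mpr h.ρB) (le_normalizer_normalizer a) (mem_zpowers ρ)

theorem Lin0.nC (h : Lin0 p r V B ρ) {E : Subgroup Γ} (a : zpowers ρ ≤ 𝐍(E)) : ρ ∈ 𝐍(B ⊓ 𝐂(E)) :=
  le_normalizer_inf (zpowers_le.mpr h.ρB) (le_normalizer_centralizer a) (mem_zpowers ρ)

namespace NP

theorem comm (h : NP p r V B ρ D H) : ⁅H, zpowers ρ⁆ = ⁅OpOf p H, zpowers ρ⁆ ⊔ D := by
  obtain ⟨T, hT, n, e⟩ := h.fr
  rw [h.comm_eq h.lt h.inv hT n (e ▸ h.le), e]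

theorem two' (h : NP p r V B ρ D H) : IsPGroup 2 D := by
  obtain ⟨T, hT, n, rfl⟩ := h.fr
  exact hT.isPGroup.to_le (comm_le_left (zpowers_le.mpr n))

theorem eqD (h : NP p r V B ρ D H) : ⁅D, zpowers ρ⁆ = D := by
  obtain ⟨T, hT, n, rfl⟩ := h.fr
  exact (h.act' hT.le (zpowers_le.mpr n)).commutator_commutator

theorem invD (h : NP p r V B ρ D H) : zpowers ρ ≤ 𝐍(D) := h.eqD ▸ right_le_norm_comm _ _

theorem sp (h : NP p r V B ρ D H) : Sp D (zpowers ρ) := by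
  obtain ⟨T, hT, n, rfl⟩ := h.fr
  exact (h.toLin.mono hT.le n).sp h.p2 hT.isPGroup

theorem nU (h : NP p r V B ρ D H) : zpowers ρ ≤ 𝐍(OpOf p H) :=
  le_normalizer_OpOf (zpowers_le.mpr h.inv)

theorem nUD (h : NP p r V B ρ D H) : H ≤ 𝐍(OpOf p H ⊔ D) := by
  have := le_normalizer_sup (le_normalizer_OpOf (p := p) le_normalizer)
    (left_le_norm_comm H (zpowers ρ))
  rwa [h.comm, ← sup_assoc, sup_eq_left.mpr (comm_le_left h.nU)] at this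

/-- `O = C_D(U)` is a normal Sylow `2`-subgroup of `C_{UD}(U)` -/
theorem sylO (h : NP p r V B ρ D H) :
    IsSyl 2 (D ⊓ 𝐂(OpOf p H)) ((OpOf p H ⊔ D) ⊓ 𝐂(OpOf p H)) ∧
      (OpOf p H ⊔ D) ⊓ 𝐂(OpOf p H) ≤ 𝐍(D ⊓ 𝐂(OpOf p H)) := by
  have n : D ≤ 𝐍(OpOf p H) := le_normalizer_OpOf (le_normalizer_of_le h.le)
  refine ⟨(isSyl_of_sup h.two' (not_dvd_card_of_isPGroup (OpOf_isPGroup H) h.p2.symm) n
    (sup_comm _ _)).inf_of_le_normalizer (le_normalizer_centralizer (sup_le le_normalizer n)),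
    inf_le_left.trans (sup_le ((cent_comm.mp inf_le_right).trans (cent_le_norm _))
      (le_normalizer_inf le_normalizer (le_normalizer_centralizer n)))⟩

theorem nO (h : NP p r V B ρ D H) : H ≤ 𝐍(D ⊓ 𝐂(OpOf p H)) := by
  rw [h.sylO.1.eq_OpOf_of_le_normalizer h.sylO.2]
  exact le_normalizer_OpOf (le_normalizer_inf h.nUD
    (le_normalizer_centralizer (le_normalizer_OpOf le_normalizer)))

theorem two (h : NP p r V B ρ D H) (hX : IsSyl p X H) (hρX : ρ ∈ 𝐍(X)) (hS : S ≤ B ⊓ 𝐍(X))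
    (hp1 : IsPGroup p S) (hρS : ρ ∈ 𝐍(S)) (hA : ¬ ⁅D ⊓ 𝐂(OpOf p H), zpowers ρ⁆ ≤ 𝐂(X)) :
    S ≤ H := by
  have p2 := h.p2
  have hXR := h.comm_syl h.lt h.inv hX hρX
  have hUX : OpOf p H ≤ X := OpOf_le_of_isSyl hX
  have hUp := OpOf_isPGroup (p := p) H
  have hUH := OpOf_le (p := p) H
  have hHU : H ≤ 𝐍(OpOf p H) := le_normalizer_OpOf le_normalizer
  have nU := h.nU
  have nO := h.nO
  obtain ⟨sO, sO'⟩ := h.sylO
  have hc := h.comm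
  have hne := h.ne
  have uq := h.uq
  have star : ∀ Y ≤ H, IsPGroup p Y → ρ ∈ 𝐍(Y) → ⁅Y, zpowers ρ⁆ ≤ OpOf p H :=
    fun Y a b c => h.star h.lt h.inv a b c
  generalize OpOf p H = U at *
  have hHB := h.lt.le
  have hXB := hX.le.trans hHB
  have nρX : zpowers ρ ≤ 𝐍(X) := zpowers_le.mpr hρX
  have nρS : zpowers ρ ≤ 𝐍(S) := zpowers_le.mpr hρS
  have hU0 : ⁅U, zpowers ρ⁆ ≤ U := comm_le_left nU
  have ρO : zpowers ρ ≤ 𝐍(D ⊓ 𝐂(U)) := le_normalizer_inf h.invD (le_normalizer_centralizer nU)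
  have hAO : ⁅D ⊓ 𝐂(U), zpowers ρ⁆ ≤ D ⊓ 𝐂(U) := comm_le_left ρO
  have hAe := (h.act' (inf_le_left.trans (h.le.trans hHB)) ρO).commutator_commutator
  have nA : H ⊓ 𝐂(zpowers ρ) ≤ 𝐍(⁅D ⊓ 𝐂(U), zpowers ρ⁆) :=
    le_normalizer_commutator (inf_le_left.trans nO) (inf_le_right.trans (cent_le_norm _))
  have key : ∀ A', ⁅A', zpowers ρ⁆ = A' → IsPGroup 2 A' → A' ≤ H → A' ≤ 𝐂(⁅U, zpowers ρ⁆) →
      A' ≤ ⁅D ⊓ 𝐂(U), zpowers ρ⁆ := fun A' a b c d => by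
    have n : A' ≤ 𝐍(U) := c.trans hHU
    have n0 : A' ≤ 𝐍(⁅U, zpowers ρ⁆) := d.trans (cent_le_norm _)
    have e1 : ⁅⁅A', zpowers ρ⁆, U⁆ ≤ ⁅U, zpowers ρ⁆ := three_subgroups_norm n0
      (right_le_norm_comm _ _) (left_le_norm_comm _ _)
      (by rw [commutator_comm (zpowers ρ)]; exact comm_le_left n0)
      (commutator_mono (comm_le_left n) le_rfl)
    rw [a, commutator_comm] at e1
    have e2 : A' ≤ 𝐂(U) := cent_comm.mp ((coprimeAct_of_isPGroup_right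
      (not_dvd_card_of_isPGroup b p2) hUp n).le_centralizer (e1.trans (cent_comm.mp d)))
    have e3 : A' ≤ (U ⊔ D) ⊓ 𝐂(U) := le_inf (a.ge.trans ((commutator_mono c le_rfl).trans
      (hc.le.trans (sup_le_sup_right hU0 D)))) e2
    rw [← a]
    exact commutator_mono (sO.le_of_le_normalizer' b e3 (e3.trans sO')) le_rfl
  generalize ⁅D ⊓ 𝐂(U), zpowers ρ⁆ = A at *
  have hAD : A ≤ D := hAO.trans inf_le_left
  have hAU : A ≤ 𝐂(U) := hAO.trans inf_le_right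
  have hAB : A ≤ B := hAD.trans (h.le.trans hHB)
  have hA2 := h.two'.to_le hAD
  have ρA : zpowers ρ ≤ 𝐍(A) := hAe ▸ right_le_norm_comm _ _
  have hXd := (h.act' hXB nρX).inf_centralizer_sup_commutator
  rw [hXR] at hXd
  have hXA : X ≤ 𝐍(A) := hXd.ge.trans (sup_le ((inf_le_inf_right _ hX.le).trans nA)
    (hU0.trans ((cent_comm.mp hAU).trans (cent_le_norm _))))
  have l := h.toLin.mono hAB (ρA (mem_zpowers ρ))
  have hpA := not_dvd_card_of_isPGroup hA2 p2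
  have hF : A ⊓ 𝐂(zpowers ρ) = Zc A := by
    have := (l.special hpA).2.2
    rwa [hAe] at this
  have hFR : Zc A ≤ 𝐂(zpowers ρ) := hF.ge.trans inf_le_right
  have hFD : D ≤ 𝐂(Zc A) := cent_comm.mp ((le_inf (inf_le_left.trans hAD) hFR).trans h.sp.cent)
  have hFU : U ≤ 𝐂(Zc A) := cent_comm.mp (inf_le_left.trans hAU)
  have hFB : ∀ z ∈ Zc A, z ≠ 1 → z ∉ 𝐂(B) := fun z hz z1 e => hne (comm_eq_bot_iff.mpr
    (mem_cent_iff_le.mp (h.cent_of_mem p2 hAB hA2 hAe ⟨hz.1, e⟩ (hFR hz ρ (mem_zpowers ρ)) z1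
      (le_inf (hUH.trans hHB) (cent_comm.mp hAU)) (nU (mem_zpowers ρ)))))
  have hCz : ∀ z ∈ Zc A, z ≠ 1 → B ⊓ C1 z ≤ H := fun z hz z1 => by
    refine uq _ (lt_of_le_of_ne inf_le_left fun e => hFB z hz z1 (le_C1_iff.mp (inf_eq_left.mp e)))
      ?_ (le_inf (h.le.trans hHB) (hFD.trans (cent_le_C1 hz)))
      (hU0.trans (le_inf (hUH.trans hHB) (hFU.trans (cent_le_C1 hz))))
    rw [← cent_zpowers]
    exact h.nC ((cent_comm.mp (zpowers_le.mpr (hFR hz))).trans (cent_le_norm _))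
  have hnc : ¬ IsCyclic (Zc A) := fun e => hA (cent_comm.mp (hXd.ge.trans (sup_le (fun c hc => ?_)
    (hU0.trans (cent_comm.mp hAU)))))
  swap
  · obtain ⟨k, hk⟩ := pow_eq_one_of_isPGroup hX.isPGroup hc.1
    refine l.zc p2 hA2 hAe (fun a ha b hb a1 b1 a2 b2 => ?_) (hXA hc.1) (hc.2 ρ (mem_zpowers ρ))
      (Odd.of_dvd_nat ((hp.out.odd_of_ne_two p2).pow) (orderOf_dvd_of_pow_eq_one hk))
      fun e => h.cop (e.trans (orderOf_dvd_card (hXB hc.1)))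
    exact congrArg Subtype.val (involution_unique_of_cyclic (A := Zc A) ⟨a, ha⟩ ⟨b, hb⟩
      (Subtype.ext (by simpa [sq] using a2)) (Subtype.ext (by simpa [sq] using b2))
      (fun e => a1 (congrArg Subtype.val e)) fun e => b1 (congrArg Subtype.val e))
  have gen : ∀ P ≤ B, IsPGroup p P → A ≤ 𝐍(P) → P ≤ H := fun P a b c =>
    le_of_centralizers (Zc_isComm A) hnc (inf_le_left.trans c)
      (coprime_card_of_isPGroup (hA2.to_le inf_le_left) (not_dvd_card_of_isPGroup b p2.symm))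
      fun z hz z1 => (inf_le_inf_right _ a).trans (hCz z hz z1)
  have gen' : ∀ K < B, ρ ∈ 𝐍(K) → A ≤ K → OpOf p K ≤ H := fun K a b c =>
    gen _ ((OpOf_le K).trans a.le) (OpOf_isPGroup K) (le_normalizer_OpOf (le_normalizer_of_le c))
  -- the first step : `[S, ρ] ≤ H`
  have hAV := hAB.trans h.BV
  have hXV := hXB.trans h.BV
  have aV := coprimeAct_of_isPGroup_right hpA h.toLin0.isPGroup hAV
  have v1 : ⁅V, A⁆ ⊔ V ⊓ 𝐂(A) = V := (sup_comm _ _).trans aV.inf_centralizer_sup_commutator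
  have v2 : ⁅V, A⁆ ⊓ (V ⊓ 𝐂(A)) = ⊥ := by
    have := inf_centralizer_inf_commutator_eq_bot (isComm_iff_le_cent.mpr h.ab.1) hAV aV.coprime
    exact le_bot_iff.mp ((le_inf (inf_le_right.trans inf_le_right) inf_le_left).trans this.le)
  have v3 : X ≤ 𝐍(⁅V, A⁆) := le_normalizer_commutator hXV hXA
  have v4 : X ≤ 𝐍(V ⊓ 𝐂(A)) := le_normalizer_inf hXV (le_normalizer_centralizer hXA)
  have lX := h.toLin0.mono hXB hρX
  have n1 : ⁅U, zpowers ρ⁆ ≤ X ⊓ 𝐂(⁅V, A⁆) := le_inf (hU0.trans hUX)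
    (l.mM p2 hA2 hAe (cent_comm.mp hAU) (hUX.trans hXV))
  have n2 : A ≤ 𝐂((X ⊓ 𝐂(⁅V, A⁆) : Subgroup Γ)) := by
    refine comm_eq_bot_iff.mp (le_bot_iff.mp (le_trans ?_ h.faith.le))
    have a1 := comm_le_left ((inf_le_left (b := 𝐂(⁅V, A⁆))).trans hXA)
    refine le_inf (a1.trans hAB) ?_
    exact cent_comm.mp (v1.ge.trans (sup_le (cent_comm.mp ((commutator_mono le_rfl inf_le_right).trans
      (comm_le_right (le_normalizer_centralizer (right_le_norm_comm V A)))))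
      (inf_le_right.trans (cent_anti a1))))
  have n3 : ∀ x ∈ S, x⁻¹ * ρ * x ∈ 𝐍((X ⊓ 𝐂(⁅V, A⁆) : Subgroup Γ)) := fun x hx => by
    have a1 := cj_eq_of_mem_norm (hS hx).2
    have a2 := cj_eq_of_mem_norm (h.BV (hS hx).1)
    have := lX.ks (V' := cj(x, ⁅V, A⁆)) (V'' := cj(x, V ⊓ 𝐂(A))) (by rw [← cj_sup, v1, a2])
      (by rw [← cj_inf, v2, cj_bot]) (a1.ge.trans (cj_le_norm_cj.mpr v3))
      (a1.ge.trans (cj_le_norm_cj.mpr v4))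
    rwa [← cj_cent, ← a1, ← cj_inf, ← cj_norm, mem_cj] at this
  have n4 : zpowers ρ ≤ 𝐍((X ⊓ 𝐂(⁅V, A⁆) : Subgroup Γ)) := zpowers_le.mpr (by
    simpa using n3 1 (one_mem _))
  have n5 : IsPGroup p (X ⊓ 𝐂(⁅V, A⁆) : Subgroup Γ) := hX.isPGroup.to_le inf_le_left
  have n6 := h.norm_lt n5 (inf_le_left.trans hXB) (n4 (mem_zpowers ρ)) (ne_bot_of_le n1 hne)
  generalize X ⊓ 𝐂(⁅V, A⁆) = N at n2 n3 n4 n6
  have hSB := hS.trans inf_le_left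
  have aS := h.act' hSB nρS
  have s1 : ⁅S, zpowers ρ⁆ ≤ B ⊓ 𝐍(N) := le_inf ((comm_le_left nρS).trans hSB)
    (commutator_le.mpr fun x hx y hy => by
      have a1 : cj(x, zpowers ρ) ≤ 𝐍(N) := by
        rw [cj_zpowers, zpowers_le]; simpa using n3 x⁻¹ (inv_mem hx)
      exact mul_mem (a1 (conj_mem_cj.mpr hy)) (inv_mem (n4 hy)))
  have s2 : ⁅S, zpowers ρ⁆ ≤ H := aS.commutator_commutator.ge.trans ((h.star n6 (h.nN n4) s1
    (hp1.to_le (comm_le_left nρS)) (right_le_norm_comm _ _ (mem_zpowers ρ))).trans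
      (gen' _ n6 (h.nN n4) (le_inf hAB (n2.trans (cent_le_norm _)))))
  -- the second step
  refine aS.inf_centralizer_sup_commutator.ge.trans (sup_le (fun x hx => ?_) s2)
  have xR := cent_le_norm _ hx.2
  have x0 : x ∈ 𝐍(⁅U, zpowers ρ⁆) := hXR ▸ zpowers_le.mp (le_normalizer_commutator
    (zpowers_le.mpr (hS hx.1).2) (zpowers_le.mpr xR))
  have ρ0 := right_le_norm_comm U (zpowers ρ)
  have c1 : B ⊓ 𝐂(⁅U, zpowers ρ⁆) < B := (inf_le_inf_left _ (cent_le_norm _)).trans_lt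
    (h.norm_lt (hUp.to_le hU0) (hU0.trans (hUH.trans hHB)) (ρ0 (mem_zpowers ρ)) hne)
  have c2 := h.nC ρ0
  have c3 : A ≤ B ⊓ 𝐂(⁅U, zpowers ρ⁆) := le_inf hAB (hAU.trans (cent_anti hU0))
  have c4 : x ∈ 𝐍(B ⊓ 𝐂(⁅U, zpowers ρ⁆)) := zpowers_le.mp (le_normalizer_inf
    (le_normalizer_of_le (zpowers_le.mpr (hSB hx.1))) (le_normalizer_centralizer
      (zpowers_le.mpr x0)))
  obtain ⟨T, hT, nT, lT⟩ := (h.act' c1.le (zpowers_le.mpr c2)).exists_isSyl_ge hA2 c3 ρA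
  have t0 := comm_le_left nT
  have tB := hT.le.trans inf_le_left
  have t1 : A ≤ ⁅T, zpowers ρ⁆ := hAe.ge.trans (commutator_mono lT le_rfl)
  have hA0 : A ≠ ⊥ := fun e => hA (e.le.trans bot_le)
  have hF0 := Zc_ne_bot hA2.isNilpotent hA0
  obtain ⟨z, hz, z1⟩ := exists_ne_one hF0
  have t2 : ⁅T, zpowers ρ⁆ = A := le_antisymm (key _ (h.act' tB nT).commutator_commutator
    (hT.isPGroup.to_le t0) ((le_inf (t0.trans tB) (le_C1_iff.mpr (((h.toLin.mono tB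
      (nT (mem_zpowers ρ))).sp p2 hT.isPGroup).cent ⟨t1 hz.1, hFR hz⟩))).trans (hCz z hz z1))
    (t0.trans (hT.le.trans inf_le_right))) t1
  have c5 := h.comm_eq' c1 c2 hT (nT (mem_zpowers ρ))
  have c6 := star _ (gen' _ c1 c2 c3) (OpOf_isPGroup _)
    (le_normalizer_OpOf (zpowers_le.mpr c2) (mem_zpowers ρ))
  have c7 : x ∈ 𝐍(⁅B ⊓ 𝐂(⁅U, zpowers ρ⁆), zpowers ρ⁆) := zpowers_le.mp
    (le_normalizer_commutator (zpowers_le.mpr c4) (zpowers_le.mpr xR))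
  rw [c5, t2] at c7
  generalize ⁅OpOf p (B ⊓ 𝐂(⁅U, zpowers ρ⁆)), zpowers ρ⁆ = U₁ at c6 c7
  have u1 : A ≤ 𝐂(U₁) := hAU.trans (cent_anti c6)
  have xA : x ∈ 𝐍(A) := by
    rw [(isSyl_of_sup hA2 (not_dvd_card_of_isPGroup (hUp.to_le c6) p2.symm)
      (u1.trans (cent_le_norm _)) (sup_comm _ _)).eq_OpOf_of_le_normalizer
      (sup_le ((cent_comm.mp u1).trans (cent_le_norm _)) le_normalizer)]
    exact le_normalizer_OpOf le_rfl c7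
  have ρF := ρA.trans (norm_le_norm_Zc A)
  have FB : Zc A ≤ B := inf_le_left.trans hAB
  refine uq (B ⊓ 𝐍(Zc A)) (lt_of_le_of_ne inf_le_left fun e => hFB z hz z1 ?_) (h.nN ρF)
    (le_inf (h.le.trans hHB) (hFD.trans (cent_le_norm _)))
    (hU0.trans (le_inf (hUH.trans hHB) (hFU.trans (cent_le_norm _))))
    ⟨hSB hx.1, norm_le_norm_Zc A xA⟩
  exact h.hZ _ ((inf_le_left.trans (hAD.trans h.le)).trans_lt h.lt) (inf_eq_left.mp e)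
    (ρF (mem_zpowers ρ)) hz

end NP

end Cfsg.Agent.Lib.Fl
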