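/-
Quadratic elements centralize a special `2`-group.
-/
import Cfsg.Agent.Lib.Fl.HDefs
import Cfsg.Agent.Lib.PGroup.Extraspecial

set_option autoImplicit false
set_option linter.unusedSectionVars false

namespace Cfsg.Agent.Lib.Fl

open Subgroup Cfsg.Agent.Lib.Core Cfsg.Agent.Lib.Glaub Cfsg.Agent.Lib.ZJ
open scoped commutatorElement

namespace Qs

section Ring

variable {S : Type*} [Ring S]

theorem ringA (h2 : ∀ x : S, x + x = 0 → x = 0) {n m : S} (hn : n * n = 0) (hm : m * m = 0)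
    (h : (1 - n) * (1 + m) * ((1 - n) * (1 + m)) = 1) : (1 - n) * (1 + m) = 1 := by
  have e0 : (1 + m) * (1 - n) * (1 + m) = 1 + n := by
    linear_combination (norm := noncomm_ring) (1 + n) * h + hn * ((1 + m) * (1 - n) * (1 + m))
  have e1 : m + m - n - n - m * n - n * m - m * n * m = 0 := by
    linear_combination (norm := noncomm_ring) e0 - hm
  have e2 : m * n + m * n + m * n * m = 0 := by
    linear_combination (norm := noncomm_ring) hm + hm - hm * n - hm * (n * m) - m * e1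
  have e3 : n * m + n * m + m * n * m = 0 := by
    linear_combination (norm := noncomm_ring) hm + hm - n * hm - m * n * hm - e1 * m
  have e4 : m * n - n * m = 0 := h2 _ (by linear_combination (norm := noncomm_ring) e2 - e3)
  have e5 : m * n * m = 0 := by
    linear_combination (norm := noncomm_ring) e4 * m + n * hm
  have e6 : m * n = 0 := h2 _ (by linear_combination (norm := noncomm_ring) e2 - e5)
  have e7 : n * m = 0 := h2 _ (by linear_combination (norm := noncomm_ring) e3 - e5)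
  have e8 : m - n = 0 := h2 _ (by linear_combination (norm := noncomm_ring) e1 + e5 + e6 + e7)
  linear_combination (norm := noncomm_ring) e8 - e7

variable {G : Type*} [Group G] (τ : G →* S)

theorem ql (h2 : ∀ x : S, x + x = 0 → x = 0) {c : G} (hq : (τ c - 1) * (τ c - 1) = 0) (f : G)
    (h : τ (c⁻¹ * f * c * f⁻¹) * τ (c⁻¹ * f * c * f⁻¹) = 1) : τ (c⁻¹ * f * c * f⁻¹) = 1 := by
  have a1 : τ c * τ c⁻¹ = 1 := by rw [← map_mul, mul_inv_cancel, map_one]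
  have a2 : τ f⁻¹ * τ f = 1 := by rw [← map_mul, inv_mul_cancel, map_one]
  have a3 : τ f * τ f⁻¹ = 1 := by rw [← map_mul, mul_inv_cancel, map_one]
  have a4 : τ c⁻¹ = 1 - (τ c - 1) := by
    linear_combination (norm := noncomm_ring) hq * τ c⁻¹ + (1 + 1 - τ c) * a1
  have e : τ (c⁻¹ * f * c * f⁻¹) = (1 - (τ c - 1)) * (1 + τ f * (τ c - 1) * τ f⁻¹) := by
    rw [map_mul, map_mul, map_mul, a4]
    linear_combination (norm := noncomm_ring) (1 - (τ c - 1)) * a3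
  rw [e] at h ⊢
  refine ringA h2 hq ?_ h
  linear_combination (norm := noncomm_ring) τ f * (τ c - 1) * a2 * (τ c - 1) * τ f⁻¹ +
    τ f * hq * τ f⁻¹

theorem seven (h2 : ∀ x : S, x + x = 0 → x = 0) {c : G} (hq : (τ c - 1) * (τ c - 1) = 0)
    {D : Subgroup G} (hc : ∀ a ∈ D, c⁻¹ * a * c ∈ D)
    (s1 : ∀ a ∈ D, τ a * τ a = 1 ∨ τ a * τ a = -1)
    (s2 : ∀ a ∈ D, ∀ b ∈ D, τ (a * b * a⁻¹) = τ b ∨ τ (a * b * a⁻¹) = - τ b)
    {f₁ f₂ f₃ : G} (h₁ : f₁ ∈ D) (h₂ : f₂ ∈ D) (h₃ : f₃ ∈ D)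
    (n1 : τ (c⁻¹ * f₁ * c * f₁⁻¹) ≠ 1) (n2 : τ (c⁻¹ * f₂ * c * f₂⁻¹) ≠ 1)
    (n3 : τ (c⁻¹ * f₃ * c * f₃⁻¹) ≠ 1)
    (n12 : τ (c⁻¹ * (f₁ * f₂) * c * (f₁ * f₂)⁻¹) ≠ 1)
    (n13 : τ (c⁻¹ * (f₁ * f₃) * c * (f₁ * f₃)⁻¹) ≠ 1)
    (n23 : τ (c⁻¹ * (f₂ * f₃) * c * (f₂ * f₃)⁻¹) ≠ 1) :
    τ (c⁻¹ * (f₁ * (f₂ * f₃)) * c * (f₁ * (f₂ * f₃))⁻¹) = 1 := by
  by_contra n123
  set u : G → S := fun f => τ (c⁻¹ * f * c * f⁻¹) with hu
  have hy : ∀ f ∈ D, c⁻¹ * f * c * f⁻¹ ∈ D := fun f hf => mul_mem (hc f hf) (inv_mem hf)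
  have A : ∀ f ∈ D, u f ≠ 1 → u f * u f = -1 := fun f hf hn =>
    (s1 _ (hy f hf)).resolve_left fun e => hn (ql τ h2 hq f e)
  have B : ∀ f ∈ D, ∀ g ∈ D, u (f * g) = u f * u g ∨ u (f * g) = -(u f * u g) := by
    intro f hf g hg
    have e : u (f * g) = u f * τ (f * (c⁻¹ * g * c * g⁻¹) * f⁻¹) := by
      simp only [hu]
      rw [← map_mul]
      congr 1
      group
    rcases s2 f hf _ (hy g hg) with e1 | e1
    · left; rw [e, e1]
    · right; rw [e, e1, mul_neg]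
  have C : ∀ f ∈ D, ∀ g ∈ D, u f ≠ 1 → u g ≠ 1 → u (f * g) ≠ 1 → u g * u f = -(u f * u g) := by
    intro f hf g hg a b ab
    have e1 := A f hf a
    have e2 := A g hg b
    have e3 : u f * u g * (u f * u g) = -1 := by
      have := A _ (mul_mem hf hg) ab
      rcases B f hf g hg with e | e
      · rwa [e] at this
      · rwa [e, neg_mul_neg] at this
    linear_combination (norm := noncomm_ring) u f * e3 * u g - e1 * (u g * u f * (u g * u g)) +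
      u g * u f * e2
  have c12 := C _ h₁ _ h₂ n1 n2 n12
  have c13 := C _ h₁ _ h₃ n1 n3 n13
  have c123 := C _ h₁ _ (mul_mem h₂ h₃) n1 n23 n123
  have c' : u f₂ * u f₃ * u f₁ = -(u f₁ * (u f₂ * u f₃)) := by
    rcases B _ h₂ _ h₃ with e | e
    · rwa [e] at c123
    · rw [e] at c123
      linear_combination (norm := noncomm_ring) -c123
  have x0 : u f₁ * (u f₂ * u f₃) = 0 := h2 _ (by
    linear_combination (norm := noncomm_ring) c' - u f₂ * c13 + c12 * u f₃)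
  have x1 : (1 : S) = 0 := by
    have : τ ((c⁻¹ * f₁ * c * f₁⁻¹) * ((c⁻¹ * f₂ * c * f₂⁻¹) * (c⁻¹ * f₃ * c * f₃⁻¹))) = 0 := by
      rw [map_mul τ (c⁻¹ * f₁ * c * f₁⁻¹), map_mul τ (c⁻¹ * f₂ * c * f₂⁻¹)]
      exact x0
    rw [← map_one τ, ← mul_inv_cancel ((c⁻¹ * f₁ * c * f₁⁻¹) * ((c⁻¹ * f₂ * c * f₂⁻¹) *
      (c⁻¹ * f₃ * c * f₃⁻¹))), map_mul, this, zero_mul]
  exact n1 (by rw [← mul_one (τ _), x1, mul_zero])

end Ring

universe u
variable {Γ : Type u} [Group Γ] [Finite Γ]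

theorem eq_one_of_sq {p : ℕ} [hp : Fact p.Prime] (hp2 : p ≠ 2) {X : Type*} [Group X] {w : X}
    (h1 : w ^ p = 1) (h : w * w = 1) : w = 1 := by
  obtain ⟨k, hk⟩ := hp.out.odd_of_ne_two hp2
  rw [hk, pow_succ, pow_mul, pow_two, h, one_pow, one_mul] at h1
  exact h1

theorem exists_tau {p : ℕ} [hp : Fact p.Prime] (hp2 : p ≠ 2) {W : Subgroup Γ} (hW : IsAb p W) :
    ∃ (S : Type u) (_ : Ring S) (τ : 𝐍(W) →* S), (∀ x : S, x + x = 0 → x = 0) ∧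
      (∀ g : 𝐍(W), τ g = 1 ↔ (g : Γ) ∈ 𝐂(W)) ∧
      (∀ g : 𝐍(W), (∀ w ∈ W, (g : Γ) * w * (g : Γ)⁻¹ = w⁻¹) → τ g = -1) ∧
      (∀ g : 𝐍(W), (∀ w ∈ W, (g : Γ) * ((g : Γ) * w * (g : Γ)⁻¹ * w⁻¹) * (g : Γ)⁻¹ =
        (g : Γ) * w * (g : Γ)⁻¹ * w⁻¹) → (τ g - 1) * (τ g - 1) = 0) := by
  letI : CommGroup W := { (inferInstance : Group W) with
    mul_comm := fun a b => Subtype.ext (hW.1 b.2 a a.2) }
  let τ : 𝐍(W) →* AddMonoid.End (Additive W) :=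
    (monoidEndToAdditive W).toMonoidHom.comp
      ((MulDistribMulAction.toMonoidEnd (MulAut W) W).comp W.normalizerMonoidHom)
  have hτ : ∀ (g : 𝐍(W)) (w : W), ((Additive.toMul (τ g (Additive.ofMul w)) : W) : Γ) =
      (g : Γ) * w * (g : Γ)⁻¹ := fun g w => rfl
  refine ⟨AddMonoid.End (Additive W), inferInstance, τ, fun x hx => ?_, fun g => ⟨fun e => ?_,
    fun e => ?_⟩, fun g e => ?_, fun g e => ?_⟩
  · refine DFunLike.ext _ _ fun w => ?_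
    have e : x w + x w = 0 := DFunLike.congr_fun hx w
    have : Additive.toMul (x w) = 1 := eq_one_of_sq (p := p) hp2
      (Subtype.ext (hW.2 _ (Additive.toMul (x w)).2)) (congrArg Additive.toMul e)
    exact congrArg Additive.ofMul this
  · intro w hw
    have := hτ g ⟨w, hw⟩
    rw [e] at this
    change w = _ at this
    rw [eq_mul_inv_iff_mul_eq] at this
    exact this
  · refine DFunLike.ext _ _ fun w => ?_
    refine Additive.toMul.injective (Subtype.ext ?_)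
    refine (hτ g (Additive.toMul w)).trans ?_
    rw [← e _ (Additive.toMul w).2, mul_inv_cancel_right]
    rfl
  · refine DFunLike.ext _ _ fun w => ?_
    refine Additive.toMul.injective (Subtype.ext ?_)
    exact (hτ g (Additive.toMul w)).trans (e _ (Additive.toMul w).2)
  · refine DFunLike.ext _ _ fun w => ?_
    refine Additive.toMul.injective (Subtype.ext ?_)
    have e1 : ∀ v : Additive W, ((Additive.toMul ((τ g - 1) v) : W) : Γ) =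
        (g : Γ) * (Additive.toMul v : W) * (g : Γ)⁻¹ * ((Additive.toMul v : W) : Γ)⁻¹ := by
      intro v
      rw [← hτ g (Additive.toMul v)]
      change ((Additive.toMul (τ g v - v) : W) : Γ) = _
      rw [toMul_sub, div_eq_mul_inv]
      rfl
    change ((Additive.toMul ((τ g - 1) ((τ g - 1) w)) : W) : Γ) = 1
    rw [e1, e1, e _ (Additive.toMul w).2, mul_inv_cancel]

/-- no fixed points modulo `F`. -/
theorem fp {s : ℕ} [hs : Fact s.Prime] (hs2 : s ≠ 2) {D F : Subgroup Γ} {g : Γ} {k : ℕ}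
    (hg : g ^ s ^ k = 1) (hD : IsPGroup 2 D) (hF : F ≤ D) (gF : g ∈ 𝐍(F))
    (hC : ∀ x ∈ D, g * x = x * g → x ∈ F) {i : ℕ} (hi : ¬ s ∣ i) {f : Γ} (hf : f ∈ D)
    (h : f⁻¹ * (g ^ i * f * (g ^ i)⁻¹) ∈ F) : f ∈ F := by
  have hN : g ^ i ∈ 𝐍(F) := pow_mem gF i
  have hA : CoprimeAct (zpowers (g ^ i)) F := by
    refine coprimeAct_of_isPGroup_left (p := s) (isPGroup_zpowers (k := k) ?_) ?_ (zpowers_le.mpr hN)
    · rw [← pow_mul, mul_comm, pow_mul, hg, one_pow]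
    · obtain ⟨n, hn⟩ := IsPGroup.iff_card.mp (hD.to_le hF)
      rw [hn]
      exact fun e => hs2 ((Nat.prime_dvd_prime_iff_eq hs.out Nat.prime_two).mp
        (hs.out.dvd_of_dvd_pow e))
  have key : ∀ n : ℕ, ((g ^ i) ^ n)⁻¹ * (f⁻¹ * (g ^ i) ^ n * f) ∈ F := by
    intro n
    induction n with
    | zero => simp
    | succ n ih =>
      have e : ((g ^ i) ^ (n + 1))⁻¹ * (f⁻¹ * (g ^ i) ^ (n + 1) * f) =
          (g ^ i)⁻¹ * ((((g ^ i) ^ n)⁻¹ * (f⁻¹ * (g ^ i) ^ n * f)) *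
            (f⁻¹ * (g ^ i * f * (g ^ i)⁻¹))) * g ^ i := by
        rw [pow_succ]; group
      rw [e]
      exact conj_mem_of_mem_normalizer' hN (mul_mem ih h)
  obtain ⟨c, hc, n, hn, rfl⟩ := hA.exists_centralizer_mul (g := f) (by
    intro a ha
    obtain ⟨n, rfl⟩ := mem_powers_iff_mem_zpowers.mpr ha
    exact key n)
  have hcD : c ∈ D := by simpa using mul_mem hf (inv_mem (hF hn))
  refine mul_mem (hC c hcD (hc g ?_)) hn
  refine mem_zpowers_pow_iff.mpr ?_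
  exact Nat.Coprime.coprime_dvd_right (orderOf_dvd_of_pow_eq_one hg)
    (Nat.Coprime.pow_right k ((Nat.Prime.coprime_iff_not_dvd hs.out).mpr hi).symm)

theorem four {s : ℕ} [hs : Fact s.Prime] (h5 : 5 ≤ s) {D F : Subgroup Γ} {g : Γ} {k : ℕ}
    (hg : g ^ s ^ k = 1) (hD : IsPGroup 2 D) (hF : F ≤ D) (gD : g ∈ 𝐍(D)) (gF : g ∈ 𝐍(F))
    (hC : ∀ x ∈ D, g * x = x * g → x ∈ F) (sq : ∀ x ∈ D, x * x ∈ F)
    (sv : ∀ a ∈ D, ∀ b ∈ D, ∀ d ∈ D, a ∉ F → b ∉ F → d ∉ F → a * b ∉ F → a * d ∉ F → b * d ∉ F →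
      a * (b * d) ∈ F) : D ≤ F := by
  intro f hf
  by_contra hn
  have m : ∀ i : ℕ, g ^ i * f * (g ^ i)⁻¹ ∈ D := fun i =>
    conj_mem_of_mem_normalizer (pow_mem gD i) hf
  have n : ∀ i : ℕ, g ^ i * f * (g ^ i)⁻¹ ∉ F := fun i e =>
    hn ((mem_normalizer_iff.mp (pow_mem gF i) f).mpr e)
  have n' : ∀ i j : ℕ, 0 < j → j < 5 →
      (g ^ i * f * (g ^ i)⁻¹)⁻¹ * (g ^ (j + i) * f * (g ^ (j + i))⁻¹) ∉ F := by
    intro i j j0 j5 e
    refine n i (fp (s := s) (by omega) hg hD hF gF hC (i := j)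
      (fun d => absurd (Nat.le_of_dvd j0 d) (by omega)) (m i) ?_)
    convert e using 2
    rw [pow_add]; group
  have n2 : ∀ i j : ℕ, 0 < j → j < 5 →
      (g ^ i * f * (g ^ i)⁻¹) * (g ^ (j + i) * f * (g ^ (j + i))⁻¹) ∉ F := by
    intro i j j0 j5 e
    refine n' i j j0 j5 ?_
    have := mul_mem (inv_mem (sq _ (m i))) e
    convert this using 1
    group
  have e1 := sv _ (m 0) _ (m 1) _ (m 2) (n 0) (n 1) (n 2) (n2 0 1 (by omega) (by omega))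
    (n2 0 2 (by omega) (by omega)) (n2 1 1 (by omega) (by omega))
  have e2 := sv _ (m 0) _ (m 1) _ (m 3) (n 0) (n 1) (n 3) (n2 0 1 (by omega) (by omega))
    (n2 0 3 (by omega) (by omega)) (n2 1 2 (by omega) (by omega))
  refine n' 2 1 (by omega) (by omega) ?_
  have := mul_mem (inv_mem e1) e2
  convert this using 1
  group

/-- The elements of `D` commuting with `c` modulo `C(W)`. -/
def F0 (W D : Subgroup Γ) (c : Γ) (hDW : D ≤ 𝐍(W)) : Subgroup Γ where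
  carrier := {f | f ∈ D ∧ c⁻¹ * f * c * f⁻¹ ∈ 𝐂(W)}
  one_mem' := ⟨one_mem _, by simp⟩
  mul_mem' := by
    rintro a b ⟨ha, ha'⟩ ⟨hb, hb'⟩
    refine ⟨mul_mem ha hb, ?_⟩
    have := mul_mem ha' (conj_mem_of_mem_normalizer
      (normalizer_le_normalizer_centralizer _ (hDW ha)) hb')
    convert this using 1
    group
  inv_mem' := by
    rintro a ⟨ha, ha'⟩
    refine ⟨inv_mem ha, ?_⟩
    have := conj_mem_of_mem_normalizer'
      (normalizer_le_normalizer_centralizer _ (hDW ha)) (inv_mem ha')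
    convert this using 1
    group

/-- The elements of `W` on which `q` acts as the `e`-th power. -/
def Eig (W : Subgroup Γ) (hW : W ≤ 𝐂(W)) (q : Γ) (e : ℤ) : Subgroup Γ where
  carrier := {w | w ∈ W ∧ q * w * q⁻¹ = w ^ e}
  one_mem' := ⟨one_mem _, by simp⟩
  mul_mem' := by
    rintro a b ⟨ha, ha'⟩ ⟨hb, hb'⟩
    refine ⟨mul_mem ha hb, ?_⟩
    rw [Commute.mul_zpow (hW hb a ha), ← ha', ← hb']
    group
  inv_mem' := by
    rintro a ⟨ha, ha'⟩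
    refine ⟨inv_mem ha, ?_⟩
    rw [inv_zpow, ← ha']
    group

theorem norm_Eig {W : Subgroup Γ} (hW : W ≤ 𝐂(W)) {q x : Γ} (e : ℤ) (hx : x ∈ 𝐍(W))
    (h : x⁻¹ * q * x * q⁻¹ ∈ 𝐂(W)) (hq : q ∈ 𝐍(W)) : x ∈ 𝐍(Eig W hW q e) := by
  refine mem_normalizer_of_conj_mem ?_
  rintro w ⟨hw, hw'⟩
  refine ⟨conj_mem_of_mem_normalizer hx hw, ?_⟩
  have := h _ (conj_mem_of_mem_normalizer hq hw)
  rw [conj_zpow, ← hw']
  calc q * (x * w * x⁻¹) * q⁻¹
      = x * ((x⁻¹ * q * x * q⁻¹) * (q * w * q⁻¹)) * (x⁻¹ * q * x * q⁻¹)⁻¹ * x⁻¹ := by group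
    _ = x * (q * w * q⁻¹) * x⁻¹ := by rw [← this]; group

theorem comm_le {W D : Subgroup Γ} {c : Γ} (hcW : c ∈ 𝐍(W))
    (h : ∀ f ∈ D, c⁻¹ * f * c * f⁻¹ ∈ 𝐂(W)) : ⁅D, zpowers c⁆ ≤ 𝐂(W) := by
  have hc := normalizer_le_normalizer_centralizer _ hcW
  rw [commutator_le]
  intro d hd x hx
  obtain ⟨n, rfl⟩ := mem_powers_iff_mem_zpowers.mpr hx
  induction n with
  | zero => simp
  | succ n ih =>
    have e : ⁅d, c ^ (n + 1)⁆ = ⁅d, c ^ n⁆ * (c ^ (n + 1) * (c⁻¹ * d * c * d⁻¹) * (c ^ (n + 1))⁻¹) := by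
      simp only [commutatorElement_def, pow_succ]; group
    change ⁅d, c ^ (n + 1)⁆ ∈ _
    rw [e]
    exact mul_mem (ih (pow_mem (mem_zpowers c) n))
      (conj_mem_of_mem_normalizer (pow_mem hc _) (h d hd))

theorem aux {p r : ℕ} [hp : Fact p.Prime] [hr : Fact r.Prime] (hp2 : p ≠ 2) (hpr : p ≠ r)
    (hr2 : r ≠ 2) {D R : Subgroup Γ} {c : Γ} (hR : Nat.card R = r) (hD : IsPGroup 2 D)
    (hRD : R ≤ 𝐍(D)) (sp : Sp D R) (hcD : c ∈ 𝐍(D)) (hcR : c ∈ 𝐂(R)) (hc : ∃ k, c ^ p ^ k = 1)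
    (n : ℕ) : ∀ W : Subgroup Γ, Nat.card W = n → IsAb p W → D ≤ 𝐍(W) → R ≤ 𝐍(W) → c ∈ 𝐍(W) →
      (∀ w ∈ W, c * (c * w * c⁻¹ * w⁻¹) * c⁻¹ = c * w * c⁻¹ * w⁻¹) →
      ∀ f ∈ D, c⁻¹ * f * c * f⁻¹ ∈ 𝐂(W) := by
  induction n using Nat.strong_induction_on with
  | _ n ih =>
  intro W hn hW hDW hRW hcW hq
  obtain ⟨S, _, τ, h2, t1, t2, t3⟩ := exists_tau hp2 hW
  have hq' := t3 ⟨c, hcW⟩ hq
  have QL : ∀ f ∈ D, (c⁻¹ * f * c * f⁻¹) * (c⁻¹ * f * c * f⁻¹) ∈ 𝐂(W) →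
      c⁻¹ * f * c * f⁻¹ ∈ 𝐂(W) := fun f hf e =>
    (t1 _).mp (ql τ h2 hq' ⟨f, hDW hf⟩ (by rw [← map_mul]; exact (t1 _).mpr e))
  have cQ : ∀ q ∈ D ⊓ 𝐂(R), c⁻¹ * q * c * q⁻¹ ∈ 𝐂(W) := by
    intro q hq
    refine QL q hq.1 ?_
    have : c ∈ 𝐍((D ⊓ 𝐂(R) : Subgroup Γ)) :=
      inf_normalizer_le_normalizer_inf ⟨hcD, le_normalizer hcR⟩
    rw [sp.el _ (mul_mem (conj_mem_of_mem_normalizer' this hq) (inv_mem hq))]
    exact one_mem _
  by_cases hs : ∀ q ∈ D ⊓ 𝐂(R), q ∈ 𝐂(W) ∨ ∀ w ∈ W, q * w * q⁻¹ = w⁻¹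
  · have sg : ∀ q : 𝐍(W), (q : Γ) ∈ D ⊓ 𝐂(R) → τ q = 1 ∨ τ q = -1 := fun q hq =>
      (hs q hq).imp (t1 q).mpr (t2 q)
    have sv : ∀ a ∈ D, ∀ b ∈ D, ∀ d ∈ D, a ∉ F0 W D c hDW → b ∉ F0 W D c hDW →
        d ∉ F0 W D c hDW → a * b ∉ F0 W D c hDW → a * d ∉ F0 W D c hDW → b * d ∉ F0 W D c hDW →
        a * (b * d) ∈ F0 W D c hDW := by
      intro a ha b hb d hd n1 n2 n3 n12 n13 n23
      refine ⟨mul_mem ha (mul_mem hb hd), (t1 _).mp (seven τ h2 hq' (D := D.subgroupOf 𝐍(W))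
        (fun x hx => conj_mem_of_mem_normalizer' (H := D) (x := x) hcD hx) (fun x hx => ?_) (fun x hx y hy => ?_)
        (f₁ := ⟨a, hDW ha⟩) (f₂ := ⟨b, hDW hb⟩) (f₃ := ⟨d, hDW hd⟩) ha hb hd
        (fun e => n1 ⟨ha, (t1 _).mp e⟩) (fun e => n2 ⟨hb, (t1 _).mp e⟩)
        (fun e => n3 ⟨hd, (t1 _).mp e⟩) (fun e => n12 ⟨mul_mem ha hb, (t1 _).mp e⟩)
        (fun e => n13 ⟨mul_mem ha hd, (t1 _).mp e⟩) (fun e => n23 ⟨mul_mem hb hd, (t1 _).mp e⟩))⟩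
      · rw [← map_mul]
        exact sg _ ⟨mul_mem hx hx, sp.sq _ hx⟩
      · have e : x * y * x⁻¹ = ⁅x, y⁆ * y := by rw [commutatorElement_def]; group
        have m : ⁅(x : Γ), (y : Γ)⁆ ∈ ⁅D, D⁆ := commutator_mem_commutator hx hy
        rw [e, map_mul]
        rcases sg ⁅x, y⁆ ⟨D.mul_mem (D.mul_mem (D.mul_mem hx hy) (D.inv_mem hx)) (D.inv_mem hy), sp.comm m⟩ with e1 | e1
        · left; rw [e1, one_mul]
        · right; rw [e1, neg_one_mul]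
    have sq : ∀ x ∈ D, x * x ∈ F0 W D c hDW := fun x hx =>
      ⟨mul_mem hx hx, cQ _ ⟨mul_mem hx hx, sp.sq _ hx⟩⟩
    have nF : ∀ g ∈ 𝐍(W), g ∈ 𝐍(D) → g * c = c * g → g ∈ 𝐍(F0 W D c hDW) := by
      intro g g1 g2 g3
      refine mem_normalizer_of_conj_mem ?_
      rintro f ⟨hf, hf'⟩
      refine ⟨conj_mem_of_mem_normalizer g2 hf, ?_⟩
      have := conj_mem_of_mem_normalizer (normalizer_le_normalizer_centralizer _ g1) hf'
      have e : c = g * c * g⁻¹ := by rw [g3, mul_inv_cancel_right]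
      have e' : c⁻¹ * (g * f * g⁻¹) * c * (g * f * g⁻¹)⁻¹ = g * (c⁻¹ * f * c * f⁻¹) * g⁻¹ := by
        conv_lhs => rw [e]
        group
      rwa [e']
    have fin : D ≤ F0 W D c hDW := by
      by_cases h5 : 5 ≤ p
      · obtain ⟨k, hk⟩ := hc
        refine four h5 hk hD (fun _ h => h.1) hcD (nF c hcW hcD rfl) (fun x hx e => ⟨hx, ?_⟩) sq sv
        rw [mul_assoc c⁻¹, ← e]
        simp
      · have h5' : 5 ≤ r := by
          have a1 := hp.out.two_le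
          have a2 := hr.out.two_le
          have a3 : p ≠ 4 := fun e => by have := hp.out; rw [e] at this; revert this; decide
          have a4 : r ≠ 4 := fun e => by have := hr.out; rw [e] at this; revert this; decide
          omega
        have : R ≠ ⊥ := fun e => by rw [e, card_bot] at hR; omega
        obtain ⟨⟨ρ, hρ⟩, h1⟩ := ne_bot_iff_exists_ne_one.mp this
        have h1' : ρ ≠ 1 := fun e => h1 (Subtype.ext e)
        have hz := PGroup.zpowers_eq_of_card_prime hR hρ h1'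
        have hp' : ρ ^ r ^ 1 = 1 := by
          rw [pow_one, ← hR, ← hz, Nat.card_zpowers, pow_orderOf_eq_one]
        refine four h5' hp' hD (fun _ h => h.1) (hRD hρ) (nF ρ (hRW hρ) (hRD hρ) (hcR ρ hρ))
          (fun x hx e => ⟨hx, cQ x ⟨hx, ?_⟩⟩) sq sv
        rw [← hz]
        intro y hy
        obtain ⟨m, rfl⟩ := hy
        exact (Commute.zpow_left e m)
    exact fun f hf => (fin hf).2
  · push Not at hs
    obtain ⟨q, hq1, n1, w₀, hw₀, n2⟩ := hs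
    have hqW := hDW hq1.1
    have step : ∀ e : ℤ, Eig W hW.1 q e < W →
        ∀ f ∈ D, c⁻¹ * f * c * f⁻¹ ∈ 𝐂(Eig W hW.1 q e) := by
      intro e lt
      refine ih _ (hn ▸ card_lt_of_lt lt) _ rfl (hW.mono lt.le)
        (fun x hx => norm_Eig hW.1 e (hDW hx) ?_ hqW) (fun x hx => norm_Eig hW.1 e (hRW hx) ?_ hqW)
        (norm_Eig hW.1 e hcW (cQ q hq1) hqW) (fun w hw => hq w hw.1)
      · rw [mul_assoc x⁻¹, ← sp.cent hq1 x hx]
        simp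
      · rw [mul_assoc x⁻¹, ← hq1.2 x hx]
        simp
    have l1 : Eig W hW.1 q 1 < W := by
      refine lt_of_le_of_ne (fun _ h => h.1) fun e => n1 fun w hw => ?_
      rw [← e] at hw
      have := hw.2
      rw [zpow_one, mul_inv_eq_iff_eq_mul] at this
      exact this.symm
    have l2 : Eig W hW.1 q (-1) < W := by
      refine lt_of_le_of_ne (fun _ h => h.1) fun e => n2 ?_
      rw [← e] at hw₀
      rw [hw₀.2, zpow_neg_one]
    intro f hf w hw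
    have qq : q * q = 1 := sp.el q hq1
    have hw' := conj_mem_of_mem_normalizer hqW hw
    have cm : w * (q * w * q⁻¹) = (q * w * q⁻¹) * w := hW.1 hw' w hw
    have q2 : q * (q * w * q⁻¹) * q⁻¹ = w := by
      calc q * (q * w * q⁻¹) * q⁻¹ = (q * q) * w * (q * q)⁻¹ := by group
        _ = w := by rw [qq]; group
    have m1 : w * (q * w * q⁻¹) ∈ Eig W hW.1 q 1 := by
      refine ⟨mul_mem hw hw', ?_⟩
      rw [zpow_one]
      calc q * (w * (q * w * q⁻¹)) * q⁻¹ = (q * w * q⁻¹) * (q * (q * w * q⁻¹) * q⁻¹) := by group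
        _ = _ := by rw [q2, cm]
    have m2 : (q * w * q⁻¹)⁻¹ * w ∈ Eig W hW.1 q (-1) := by
      refine ⟨mul_mem (inv_mem hw') hw, ?_⟩
      rw [zpow_neg_one]
      calc q * ((q * w * q⁻¹)⁻¹ * w) * q⁻¹ = (q * (q * w * q⁻¹) * q⁻¹)⁻¹ * (q * w * q⁻¹) := by
            simp only [mul_inv_rev, inv_inv, mul_assoc, inv_mul_cancel_left]
        _ = _ := by rw [q2]; group
    have c1 : Commute (w * (q * w * q⁻¹)) (c⁻¹ * f * c * f⁻¹) := step 1 l1 f hf _ m1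
    have c2 : Commute ((q * w * q⁻¹)⁻¹ * w) (c⁻¹ * f * c * f⁻¹) := step (-1) l2 f hf _ m2
    have c3 : Commute (w ^ 2) (c⁻¹ * f * c * f⁻¹) := by
      have := c1.mul_left c2
      rwa [mul_assoc w, mul_inv_cancel_left, ← pow_two] at this
    obtain ⟨k, hk⟩ := hp.out.odd_of_ne_two hp2
    have e : w = (w ^ 2) ^ (k + 1) := by
      rw [← pow_mul, show 2 * (k + 1) = p + 1 by omega, pow_succ, hW.2 w hw, one_mul]
    rw [e]
    exact c3.pow_left (k + 1)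

end Qs

universe u
variable {Γ : Type u} [Group Γ] [Finite Γ] {p r : ℕ} [hp : Fact p.Prime] [hr : Fact r.Prime]

theorem qs (hp2 : p ≠ 2) (hpr : p ≠ r) (hr2 : r ≠ 2) {W D R : Subgroup Γ} {c : Γ} (hW : IsAb p W)
    (hR : Nat.card R = r) (hD : IsPGroup 2 D) (hRD : R ≤ 𝐍(D)) (sp : Sp D R) (hDW : D ≤ 𝐍(W))
    (hRW : R ≤ 𝐍(W)) (hcW : c ∈ 𝐍(W)) (hcD : c ∈ 𝐍(D)) (hcR : c ∈ 𝐂(R)) (hc : ∃ k, c ^ p ^ k = 1)
    (hq : ⁅⁅W, zpowers c⁆, zpowers c⁆ = ⊥) : ⁅D, zpowers c⁆ ≤ 𝐂(W) := by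
  refine Qs.comm_le hcW (Qs.aux hp2 hpr hr2 hR hD hRD sp hcD hcR hc _ W rfl hW hDW hRW hcW ?_)
  intro w hw
  have m1 : ⁅w, c⁆ ∈ ⁅W, zpowers c⁆ := commutator_mem_commutator hw (mem_zpowers c)
  have m2 : ⁅⁅w, c⁆⁻¹, c⁆ ∈ ⁅⁅W, zpowers c⁆, zpowers c⁆ :=
    commutator_mem_commutator (inv_mem m1) (mem_zpowers c)
  rw [hq, mem_bot, commutatorElement_eq_one_iff_mul_comm, commutatorElement_inv,
    commutatorElement_def] at m2
  rw [← m2, mul_inv_cancel_right]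

end Cfsg.Agent.Lib.Fl
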