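/- HHS, piece ZJS: a frame normalizes `ZJ(S)`. -/
import Cfsg.Agent.Lib.Fl.HQs
import Cfsg.Agent.Lib.Fl.CS0
import Cfsg.Agent.Lib.Pt.L0
import Cfsg.Agent.FT.AppA
import Cfsg.Agent.Lib.Transfer.Residual

set_option autoImplicit false
set_option linter.unusedSectionVars false

namespace Cfsg.Agent.Lib.Fl

open Subgroup Cfsg.Agent.Lib.Core Cfsg.Agent.Lib.Glaub Cfsg.Agent.Lib.ZJ Cfsg.Agent.FT
open scoped commutatorElement

universe u
variable {Γ : Type u} [Group Γ] [Finite Γ] {p r : ℕ} [hp : Fact p.Prime] [hr : Fact r.Prime]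

/-- The hypotheses of `zjs` that pass to quotients. -/
structure ZH (p r : ℕ) (S U D R : Subgroup Γ) : Prop where
  p2 : p ≠ 2
  pr : p ≠ r
  r2 : r ≠ 2
  hR : Nat.card R = r
  hS : IsPGroup p S
  hD : IsPGroup 2 D
  US : U ≤ S
  SU : S ≤ 𝐍(U)
  DU : D ≤ 𝐍(U)
  RU : R ≤ 𝐍(U)
  RS : R ≤ 𝐍(S)
  DR : ⁅D, R⁆ = D
  sp : Sp D R
  SR : ⁅S, R⁆ ≤ U
  SD : S ≤ 𝐍((U ⊔ D : Subgroup Γ))

namespace ZH
variable {S U D R : Subgroup Γ} (h : ZH p r S U D R)
include h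

theorem hR' : IsPGroup r R := isPGroup_of_card_eq h.hR
theorem RD : R ≤ 𝐍(D) := h.DR ▸ right_le_norm_comm D R
theorem cS : CoprimeAct R S :=
  coprimeAct_of_isPGroup_left h.hR' (not_dvd_of_isPGroup_ne h.pr h.hS) h.RS
theorem cD : CoprimeAct R D :=
  coprimeAct_of_isPGroup_left h.hR' (not_dvd_of_isPGroup_ne h.r2.symm h.hD) h.RD

theorem prodK : IsProd S D (S ⊔ D) := by
  refine ⟨le_sup_left, le_sup_right, fun g hg => ?_⟩
  obtain ⟨s, hs, k, hk, rfl⟩ := (isProd_of_norm' h.SD).mem g (sup_le_sup_left le_sup_right S hg)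
  obtain ⟨u, hu, d, hd, rfl⟩ := (isProd_of_norm h.DU).mem k hk
  exact ⟨s * u, mul_mem hs (h.US hu), d, hd, mul_assoc _ _ _⟩

theorem prodL : IsProd (S ⊔ D) R (S ⊔ D ⊔ R) := isProd_of_norm (le_normalizer_sup h.RS h.RD)

theorem prodS : IsProd S (D ⊔ R) (S ⊔ D ⊔ R) := by
  refine ⟨le_sup_left.trans le_sup_left, sup_le_sup_right le_sup_right R, fun g hg => ?_⟩
  obtain ⟨k, hk, x, hx, rfl⟩ := h.prodL.mem g hg
  obtain ⟨s, hs, d, hd, rfl⟩ := h.prodK.mem k hk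
  exact ⟨s, hs, d * x, mul_mem_sup hd hx, (mul_assoc _ _ _).symm⟩

theorem prodD : IsProd D (S ⊔ R) (S ⊔ D ⊔ R) := by
  refine ⟨le_sup_right.trans le_sup_left, sup_le_sup_right le_sup_left R, fun g hg => ?_⟩
  obtain ⟨k, hk, x, hx, rfl⟩ := h.prodL.mem g hg
  obtain ⟨s, hs, d, hd, rfl⟩ := h.prodK.symm.mem k hk
  exact ⟨s, hs, d * x, mul_mem_sup hd hx, (mul_assoc _ _ _).symm⟩

theorem sylS : IsSyl p S (S ⊔ D ⊔ R) :=
  ⟨h.prodS.left, h.hS, fun e => not_dvd_card_sup (not_dvd_of_isPGroup_ne h.pr.symm h.hR')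
    (not_dvd_of_isPGroup_ne h.p2.symm h.hD) h.RD (sup_comm D R ▸ e.trans h.prodS.relIndex_dvd)⟩

theorem sylR : IsSyl r R (S ⊔ D ⊔ R) :=
  ⟨le_sup_right, h.hR', fun e => ((Nat.Prime.dvd_mul hr.out).mp
    ((e.trans h.prodL.symm.relIndex_dvd).trans h.prodK.card_dvd)).elim
      (not_dvd_of_isPGroup_ne h.pr h.hS) (not_dvd_of_isPGroup_ne h.r2.symm h.hD)⟩

theorem solv : Group.IsSolvable (S ⊔ D ⊔ R : Subgroup Γ) := by
  have h1 := isSolvable_sup (isSolvable_of_isPGroup h.hD)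
    (isSolvable_of_isPGroup (h.hS.to_le h.US)) h.DU
  rw [sup_comm] at h1
  have h2 := isSolvable_sup (isSolvable_of_isPGroup h.hS) h1 h.SD
  rw [← sup_assoc, sup_eq_left.mpr h.US] at h2
  rw [sup_comm]
  exact isSolvable_sup (isSolvable_of_isPGroup h.hR') h2 (le_normalizer_sup h.RS h.RD)

theorem LU : S ⊔ D ⊔ R ≤ 𝐍(U) := sup_le (sup_le h.SU h.DU) h.RU

theorem bar {X : Subgroup Γ} (hX : S ⊔ D ⊔ R ≤ X) {Q : Type u} [Group Q] [Finite Q] (f : X →* Q)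
    (hk : kerOf f ⊓ R = ⊥) :
    ZH p r (Core.bar f S) (Core.bar f U) (Core.bar f D) (Core.bar f R) := by
  have hS : S ≤ X := h.prodS.left.trans hX
  have hD : D ≤ X := h.prodD.left.trans hX
  have hR : R ≤ X := le_sup_right.trans hX
  have hc := Pt.bar_inf_cent_le f hR hD h.cD
  refine ⟨h.p2, h.pr, h.r2, (card_bar_of_inf_eq_bot f hR hk).trans h.hR, isPGroup_bar f h.hS,
    isPGroup_bar f h.hD, bar_mono f h.US, bar_le_normalizer f h.SU, bar_le_normalizer f h.DU,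
    bar_le_normalizer f h.RU, bar_le_normalizer f h.RS, by rw [← bar_commutator f hD hR, h.DR],
    ⟨hc.trans (bar_le_centralizer f h.sp.cent), fun q hq => ?_, fun w hw => ?_, ?_⟩,
    by rw [← bar_commutator f hS hR]; exact bar_mono f h.SR,
    by rw [← bar_sup f (h.US.trans hS) hD]; exact bar_le_normalizer f h.SD⟩
  · obtain ⟨x, hx, rfl⟩ := (mem_bar f).mp (hc hq)
    rw [← map_mul]; exact (congrArg f (Subtype.ext (h.sp.el x hx))).trans (map_one f)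
  · obtain ⟨x, hx, rfl⟩ := (mem_bar f).mp hw
    rw [← map_mul]
    exact bar_le_centralizer f le_rfl (mem_bar_of_mem f (x := x * x) (h.sp.sq x hx))
  · rw [← bar_commutator f hD hD]; exact bar_le_centralizer f h.sp.comm

theorem le_sup : S ≤ U ⊔ S ⊓ 𝐍(D) ⊓ 𝐂(R) := by
  have hD : IsSyl 2 D (U ⊔ D) := ⟨le_sup_right, h.hD, fun e => not_dvd_of_isPGroup_ne h.p2
    (h.hS.to_le h.US) (e.trans (isProd_of_norm h.DU).symm.relIndex_dvd)⟩
  have h1 := (h.cS.mono_right (M := S ⊓ 𝐍(D)) inf_le_left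
    (le_normalizer_inf h.RS (le_normalizer_normalizer h.RD))).inf_centralizer_sup_commutator
  have h2 : S ⊓ 𝐍(D) ≤ U ⊔ S ⊓ 𝐍(D) ⊓ 𝐂(R) := h1.ge.trans (sup_le le_sup_right
    (((commutator_mono inf_le_left le_rfl).trans h.SR).trans le_sup_left))
  intro s hs
  obtain ⟨n, hn, m, hm, e⟩ := hD.frattini h.SD hs
  obtain ⟨u, hu, d, hd, rfl⟩ := (isProd_of_norm h.DU).mem n hn
  rw [e, mul_assoc]
  refine mul_mem (mem_sup_left hu) (h2 ⟨?_, mul_mem (le_normalizer hd) hm⟩)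
  have := mul_mem (inv_mem (h.US hu)) hs
  rwa [e, mul_assoc, inv_mul_cancel_left] at this

/-- On a minimal normal subgroup a quadratic subgroup of `S` acts trivially. -/
theorem min_S {W : Subgroup Γ} (hW : IsPGroup p W) (h0 : W ≠ ⊥) (hL : S ⊔ D ⊔ R ≤ 𝐍(W))
    (hmin : ∀ N, N ≤ W → N ≠ ⊥ → S ⊔ D ⊔ R ≤ 𝐍(N) → N = W) (hab : IsAb p W) {s : Γ} (hs : s ∈ S)
    (hq : ⁅⁅W, zpowers s⁆, zpowers s⁆ = ⊥) : s ∈ 𝐂(W) := by
  have hSW : S ≤ 𝐍(W) := h.prodS.left.trans hL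
  have hDW : D ≤ 𝐍(W) := h.prodD.left.trans hL
  have hRW : R ≤ 𝐍(W) := le_sup_right.trans hL
  have hU : U ≤ 𝐂(W) := cent_comm.mp ((hmin (W ⊓ 𝐂(U)) inf_le_left
    (inf_centralizer_ne_bot (h.hS.to_le h.US) hW (h.US.trans hSW) h0)
    (le_normalizer_inf hL (le_normalizer_centralizer h.LU))).ge.trans inf_le_right)
  have hn : S ⊓ 𝐍(D) ⊓ 𝐂(R) ≤ 𝐍(U) := (inf_le_left.trans inf_le_left).trans h.SU
  obtain ⟨u, hu, c, hc, rfl⟩ := (isProd_of_norm hn).mem s (h.le_sup hs)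
  refine mul_mem (hU hu) ?_
  have hcle : zpowers c ≤ zpowers (u * c) ⊔ 𝐂(W) := zpowers_le.mpr (by
    have := mul_mem (mem_sup_right (S := zpowers (u * c)) (inv_mem (hU hu)))
      (mem_sup_left (T := 𝐂(W)) (mem_zpowers (u * c)))
    rwa [inv_mul_cancel_left] at this)
  have hWs : ⁅W, zpowers (u * c)⁆ ≤ W := comm_le_left ((zpowers_le.mpr hs).trans hSW)
  have hcc : zpowers (u * c) ⊔ 𝐂(W) ≤ 𝐂(⁅W, zpowers (u * c)⁆) :=
    sup_le (comm_eq_bot_iff'.mp hq) (cent_anti hWs)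
  have hq' : ⁅W, zpowers c⁆ ≤ ⁅W, zpowers (u * c)⁆ := by
    refine (commutator_mono le_rfl hcle).trans ?_
    rw [commutator_comm]
    exact commutator_sup_left_le (commutator_comm _ _).le
      ((comm_eq_bot_iff.mpr le_rfl).le.trans bot_le) (hcc.trans (cent_le_norm _))
  have key := qs h.p2 h.pr h.r2 hab h.hR h.hD h.RD h.sp hDW hRW (hSW hc.1.1) hc.1.2 hc.2
    (pow_eq_one_of_isPGroup h.hS hc.1.1)
    (comm_eq_bot_iff'.mpr (hcle.trans (hcc.trans (cent_anti hq'))))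
  set T := S ⊓ 𝐍(D) ⊓ 𝐂(R) with hT
  have hTW : T ≤ 𝐍(𝐂(W)) :=
    le_normalizer_centralizer ((inf_le_left.trans inf_le_left).trans hSW)
  have hE : CentSec T D 𝐂(W) ⊲ T := CentSec_nrm (inf_le_left.trans inf_le_right) hTW
  have hES : CentSec T D 𝐂(W) ≤ S := hE.le.trans (inf_le_left.trans inf_le_left)
  have hcE : zpowers c ≤ CentSec T D 𝐂(W) := le_CentSec (zpowers_le.mpr hc) key
  have e : W ⊓ 𝐂(CentSec T D 𝐂(W)) = W ⊓ 𝐂((CentSec T D 𝐂(W) ⊔ 𝐂(W) : Subgroup Γ)) := by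
    rw [centralizer_sup, ← inf_assoc]
    exact (inf_eq_left.mpr (inf_le_left.trans (cent_comm.mp le_rfl))).symm
  have hF := hmin (W ⊓ 𝐂(CentSec T D 𝐂(W))) inf_le_left
    (inf_centralizer_ne_bot (h.hS.to_le hES) hW (hES.trans hSW) h0) (sup_le (sup_le ?_ ?_) ?_)
  · exact cent_comm.mp (hF.ge.trans inf_le_right) (hcE (mem_zpowers c))
  · refine h.le_sup.trans (sup_le (le_normalizer_of_le_centralizer (hU.trans (cent_anti inf_le_left)))
      (le_normalizer_inf ((inf_le_left.trans inf_le_left).trans hSW)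
        (le_normalizer_centralizer hE.norm)))
  · rw [e]
    refine le_normalizer_inf hDW (le_normalizer_centralizer (le_norm_iff_comm_le_left.mpr ?_))
    refine commutator_sup_left_le ?_ ((comm_le_left (le_normalizer_centralizer hDW)).trans le_sup_right)
      le_normalizer
    rw [commutator_comm]
    exact (comm_CentSec_le hTW).trans le_sup_right
  · exact le_normalizer_inf hRW (le_normalizer_centralizer (le_normalizer_of_le_centralizer
      (cent_comm.mp (hE.le.trans inf_le_right))))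

theorem min_g {W : Subgroup Γ} (hW : IsPGroup p W) (h0 : W ≠ ⊥) (hL : S ⊔ D ⊔ R ≤ 𝐍(W))
    (hmin : ∀ N, N ≤ W → N ≠ ⊥ → S ⊔ D ⊔ R ≤ 𝐍(N) → N = W) (hab : IsAb p W) {g : Γ}
    (hg : g ∈ S ⊔ D ⊔ R) (hq : ⁅⁅W, zpowers g⁆, zpowers g⁆ = ⊥) : g ∈ 𝐂(W) := by
  obtain ⟨a, b, ha, hb, ⟨k, hk⟩, hbo, rfl⟩ := Transfer.exists_p_part_mul_p'_part (p := p) g
  have hm : ∀ x ∈ zpowers (a * b), ⁅⁅W, zpowers x⁆, zpowers x⁆ = ⊥ := fun x hx =>
    le_bot_iff.mp ((commutator_mono (commutator_mono le_rfl (zpowers_le.mpr hx))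
      (zpowers_le.mpr hx)).trans hq.le)
  have hz : zpowers (a * b) ≤ S ⊔ D ⊔ R := zpowers_le.mpr hg
  refine mul_mem ?_ ?_
  · obtain ⟨y, hy, e⟩ := h.sylS.exists_conj_le (isPGroup_zpowers hk) (zpowers_le.mpr (hz ha))
    have e1 : y * a * y⁻¹ ∈ S := e (conj_mem_cj.mpr (mem_zpowers a))
    have e2 := h.min_S hW h0 hL hmin hab e1 (by
      rw [← cj_zpowers, ← cj_eq_of_mem_norm (hL hy), ← cj_comm, ← cj_comm, hm a ha, cj_bot])
    have := conj_mem_of_mem_normalizer' (le_normalizer_centralizer hL hy) e2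
    simpa [mul_assoc] using this
  · refine mem_cent_iff_le.mpr ((coprimeAct_of_isPGroup_right ?_ hW
      (zpowers_le.mpr (hL (hz hb)))).le_centralizer (comm_eq_bot_iff.mp (hm b hb)))
    rw [Nat.card_zpowers]
    exact (Nat.Prime.coprime_iff_not_dvd hp.out).mp hbo.symm

end ZH

theorem ZH.quad (n : ℕ) : ∀ (Γ : Type u) [Group Γ] [Finite Γ] (S U D R W : Subgroup Γ) (g x : Γ),
    Nat.card W = n → ZH p r S U D R → IsPGroup p W → S ⊔ D ⊔ R ≤ 𝐍(W) → W ≤ S ⊔ D ⊔ R →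
    g ∈ S ⊔ D ⊔ R → ⁅⁅W, zpowers g⁆, zpowers g⁆ = ⊥ →
    (∀ N : Subgroup Γ, g ∈ N → S ⊔ D ⊔ R ≤ 𝐍(N) → x ∈ N) → (orderOf x).Coprime p → x ∈ 𝐂(W) := by
  induction n using Nat.strong_induction_on with | _ n ih =>
  intro Γ _ _ S U D R W g x hn h hW hL hWL hg hq hx ho
  by_cases h0 : W = ⊥
  · rw [h0, cent_bot]; exact mem_top x
  have hxL : x ∈ S ⊔ D ⊔ R := hx _ hg le_normalizer
  by_cases hmin : ∀ N, N ≤ W → N ≠ ⊥ → S ⊔ D ⊔ R ≤ 𝐍(N) → N = W
  · exact hx _ (h.min_g hW h0 hL hmin (isAb_of_min hW h0 hL hmin) hg hq) (le_normalizer_centralizer hL)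
  push Not at hmin
  obtain ⟨N, h1, h2, h3, h4⟩ := hmin
  obtain ⟨Q, _, _, f, -, hk, -⟩ := exists_bar (N := N) (X := S ⊔ D ⊔ R) (h1.trans hWL) h3
  have hb : Core.bar f S ⊔ Core.bar f D ⊔ Core.bar f R = Core.bar f (S ⊔ D ⊔ R) := by
    rw [bar_sup f le_sup_left le_sup_right, bar_sup f h.prodS.left h.prodD.left]
  have h5 := ih (Nat.card (Core.bar f W)) (by
      rw [← hn, ← card_bar_mul f hWL, hk, inf_eq_left.mpr h1]
      exact lt_mul_right Nat.card_pos ((one_lt_card_iff_ne_bot _).mpr h2)) Q _ _ _ _ (Core.bar f W)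
    (f ⟨g, hg⟩) (f ⟨x, hxL⟩) rfl (h.bar le_rfl f (by
      rw [hk]; exact inf_eq_bot_of_isPGroup_of_not_dvd (hW.to_le h1)
        (not_dvd_of_isPGroup_ne h.pr.symm h.hR'))) (isPGroup_bar f hW)
    (hb ▸ bar_le_normalizer f hL) (hb ▸ bar_mono f hWL) (hb ▸ mem_bar_of_mem f hg)
    (by
      have hz : zpowers g ≤ S ⊔ D ⊔ R := zpowers_le.mpr hg
      rw [← bar_zpowers' f hg, ← bar_commutator f hWL hz, ← bar_commutator f (comm_le_of_le hWL hz) hz,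
        hq, bar_bot])
    (fun N' e1 e2 => (mem_unbar f (x := ⟨x, hxL⟩)).mp (hx _ ((mem_unbar f (x := ⟨g, hg⟩)).mpr e1)
      (le_norm_unbar f le_rfl (hb ▸ e2))))
    (ho.coprime_dvd_left ((orderOf_map_dvd f _).trans (orderOf_mk _ _).dvd))
  have hz : zpowers x ≤ S ⊔ D ⊔ R := zpowers_le.mpr hxL
  rw [mem_cent_iff_le, ← bar_zpowers' f hxL, bar_le_centralizer_iff f hWL hz, hk] at h5
  have h6 := ih _ (hn ▸ card_lt_of_lt (lt_of_le_of_ne h1 h4)) Γ S U D R N g x rfl h (hW.to_le h1) h3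
    (h1.trans hWL) hg (le_bot_iff.mp ((commutator_mono (commutator_mono h1 le_rfl) le_rfl).trans hq.le))
    hx ho
  refine mem_cent_iff_le.mpr ((coprimeAct_of_isPGroup_right ?_ hW (hz.trans hL)).le_centralizer
    (h5.trans (mem_cent_iff_le.mp h6)))
  rw [Nat.card_zpowers]
  exact (Nat.Prime.coprime_iff_not_dvd hp.out).mp ho.symm

theorem ZH.nStable {S U D R : Subgroup Γ} (h : ZH p r S U D R) (ht : S ⊔ D ⊔ R = ⊤) :
    NStable p Γ := fun B hB hBp g hg =>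
  ⟨normalClosure {g}, inferInstance, subset_normalClosure rfl, fun x hx ho =>
    ZH.quad _ Γ S U D R B g x rfl h hBp le_normalizer_of_normal (ht ▸ le_top) (ht ▸ mem_top g) hg
      (fun N e1 e2 => by
        have := normal_of_le_normalizer_top (ht ▸ e2)
        exact normalClosure_le_normal (Set.singleton_subset_iff.mpr e1) hx) ho⟩

theorem zjs (hp2 : p ≠ 2) (hpr : p ≠ r) (hr2 : r ≠ 2) {S U D R : Subgroup Γ} (hR : Nat.card R = r)
    (hS : IsPGroup p S) (hD : IsPGroup 2 D) (hUS : U ≤ S) (hSU : S ≤ 𝐍(U)) (hDU : D ≤ 𝐍(U))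
    (hRU : R ≤ 𝐍(U)) (hRS : R ≤ 𝐍(S)) (hDR : ⁅D, R⁆ = D) (sp : Sp D R) (hSR : ⁅S, R⁆ ≤ U)
    (hSD : S ≤ 𝐍(U ⊔ D)) (hA : ⁅D ⊓ 𝐂(U), R⁆ ≤ 𝐂(S)) : D ≤ 𝐍(ZJT p S) := by
  have h : ZH p r S U D R := ⟨hp2, hpr, hr2, hR, hS, hD, hUS, hSU, hDU, hRU, hRS, hDR, sp, hSR, hSD⟩
  have hCS : 𝐂(S) ≤ 𝐍(ZJT p S) := (cent_le_norm S).trans (normalizer_le_normalizer_ZJT S)
  set L := S ⊔ D ⊔ R with hL
  have hO := OppOf_nrm p L
  have hOU : OppOf p L ≤ 𝐂(U) := cent_comm.mp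
    ((le_OpOf (hUS.trans h.prodS.left) h.LU (hS.to_le hUS)).trans (OpOf_le_centralizer_OppOf L))
  by_cases hk' : R ⊓ OppOf p L = ⊥
  swap
  · have h1 : D ≤ 𝐂(U) := (hDR.ge.trans ((commutator_mono le_rfl (le_of_card_prime (hR ▸ hr.out) hk')).trans
      (hO.comm_le' h.prodD.left))).trans hOU
    rw [inf_eq_left.mpr h1, hDR] at hA
    exact hA.trans hCS
  have hOD : OppOf p L ≤ D := by
    have h1 := (h.sylR.inf_normal hO.le hO.norm).not_dvd
    rw [hk', relIndex_bot_left] at h1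
    have h2 := ((isProd_of_norm' (h.prodD.left.trans hO.norm)).relIndex_eq.symm.dvd.trans
      (relIndex_dvd_relIndex_of_le_right le_sup_left (sup_le h.prodD.left hO.le))).trans
      (h.prodD.relIndex_dvd.trans (isProd_of_norm hRS).card_dvd)
    exact relIndex_eq_one.mp (Nat.eq_one_of_dvd_coprimes (Nat.Coprime.mul_left
      (coprime_card_of_isPGroup hS (OppOf_not_dvd L)) (coprime_card_of_isPGroup h.hR' h1)) h2
      (relIndex_dvd_card' _ _))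
  obtain ⟨Q, _, _, f, hf, hk, -⟩ := hO.exists_bar
  have hb : bar f S ⊔ bar f D ⊔ bar f R = ⊤ := by
    rw [← bar_sup f h.prodS.left h.prodD.left, ← bar_sup f le_sup_left le_sup_right, bar_self f hf]
  have h1 := OppOf_bar_eq_bot f le_rfl hk
  have h2 := (psolv_of_isSolvable (p := p) h.solv).bar f le_rfl
  have h3 := h.sylS.bar f le_rfl
  rw [bar_self f hf] at h1 h2 h3
  have h4 := ((h.bar le_rfl f (by rw [hk, inf_comm, hk'])).nStable hb).zj_normal hp2 dvd_rfl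
    (h2.centralizer_pCore_le (OppOf_top.symm.trans h1)) h3
  rw [← bar_ZJT f h.prodS.left (by
    rw [hk, inf_comm]; exact inf_eq_bot_of_isPGroup_of_not_dvd hS (OppOf_not_dvd L))] at h4
  have hZ : ZJT p S ≤ L := (ZJT_le S).trans h.prodS.left
  have h5 := le_normalizer_sup_kerOf f h.prodD.left hZ le_normalizer_of_normal
  rw [hk] at h5
  have hZn : ZJT p S ≤ 𝐍(OppOf p L) := hZ.trans hO.norm
  have h6 : IsSyl p (ZJT p S) (ZJT p S ⊔ OppOf p L) :=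
    ⟨le_sup_left, hS.to_le (ZJT_le S), fun e => OppOf_not_dvd L
      (e.trans (isProd_of_norm' hZn).relIndex_dvd)⟩
  have hRO : R ≤ 𝐍(OppOf p L) := le_sup_right.trans hO.norm
  have h7 := (h.cD.mono_right hOD hRO).inf_centralizer_sup_commutator
  have h8 : ⁅OppOf p L, R⁆ ≤ D ⊓ 𝐍(ZJT p S) := le_inf ((comm_le_left hRO).trans hOD)
    (((commutator_mono (le_inf hOD hOU) le_rfl).trans hA).trans hCS)
  have pr : IsProd (D ⊓ 𝐍(ZJT p S)) (D ⊓ 𝐂(R)) D := by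
    refine IsProd.symm ⟨inf_le_left, inf_le_left, fun d hd => ?_⟩
    obtain ⟨n, hn, m, hm, e⟩ := h6.frattini h5 hd
    obtain ⟨b, hb, a, ha, rfl⟩ := (isProd_of_norm' hZn).symm.mem n hn
    obtain ⟨c, hc, t, ht, rfl⟩ := (isProd_of_norm' (inf_le_left.trans (left_le_norm_comm _ R))).mem b
      (h7.ge hb)
    have e' : d = c * (t * (a * m)) := by rw [e]; group
    refine ⟨c, ⟨hOD hc.1, hc.2⟩, t * (a * m), ⟨?_, mul_mem (h8 ht).2 (mul_mem (le_normalizer ha) hm)⟩,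
      e'.symm⟩
    have := mul_mem (inv_mem (hOD hc.1)) hd
    rwa [e', inv_mul_cancel_left] at this
  rw [← hDR, comm_eq_of_prod pr]
  exact (comm_le_left (le_normalizer_inf h.RD (le_normalizer_normalizer
    (hRS.trans (normalizer_le_normalizer_ZJT S))))).trans inf_le_right

end Cfsg.Agent.Lib.Fl
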