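/-
The general Hall-Higman-Shult theorem: frames normalize no moving `p`-subgroup.
-/
import Cfsg.Agent.Lib.Fl.HNop2
import Cfsg.Agent.Lib.Fl.HZj

set_option autoImplicit false
set_option linter.unusedSectionVars false

namespace Cfsg.Agent.Lib.Fl

open Subgroup Cfsg.Agent.Lib.Core Cfsg.Agent.Lib.Glaub Cfsg.Agent.Lib.ZJ Cfsg.Agent.FT
open scoped commutatorElement

universe u
variable {Γ : Type u} [Group Γ] [Finite Γ] {p r : ℕ} [hp : Fact p.Prime] [hr : Fact r.Prime]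
variable {V B : Subgroup Γ} {ρ : Γ}

theorem Lin0.cact (h : Lin0 p r V B ρ) {H : Subgroup Γ} (hH : H ≤ B) (hρ : ρ ∈ 𝐍(H)) :
    CoprimeAct (zpowers ρ) H :=
  coprimeAct_zpowers h.pow hρ (not_dvd_card_of_le h.cop hH)

theorem Min2.comm_fr (h : Min2 p r V B ρ) {T H : Subgroup Γ} (hT : IsSyl 2 T B) (hρT : ρ ∈ 𝐍(T))
    (hH : H < B) (hρ : ρ ∈ 𝐍(H)) (hD : ⁅T, zpowers ρ⁆ ≤ H) :
    ⁅H, zpowers ρ⁆ = ⁅OpOf p H, zpowers ρ⁆ ⊔ ⁅T, zpowers ρ⁆ := by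
  have a := h.toLin0.cact hH.le hρ
  have aB := h.toLin0.cact le_rfl h.ρB
  obtain ⟨X, hX, n⟩ := a.exists_isSyl p
  obtain ⟨T₁, hT₁, n₁, l₁⟩ := a.exists_isSyl_ge (hT.isPGroup.to_le (comm_zp_le hρT)) hD
    (right_le_norm_comm _ _)
  obtain ⟨T₂, hT₂, n₂, l₂⟩ := aB.exists_isSyl_ge hT₁.isPGroup (hT₁.le.trans hH.le) n₁
  have e := comm_eq_of_syl aB hT hT₂ (zpowers_le.mpr hρT) n₂ (l₁.trans l₂)
  refine le_antisymm ?_ (sup_le (commutator_mono (OpOf_le H) le_rfl) ?_)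
  · rw [h.toLin.comm_eq_sup hH.le hρ hT₁ (zpowers_le.mp n₁) hX (zpowers_le.mp n),
      ← (a.mono_right hX.le n).commutator_commutator]
    exact sup_le_sup (commutator_mono (h.star hH hρ hX.le hX.isPGroup (zpowers_le.mp n)) le_rfl)
      ((commutator_mono l₂ le_rfl).trans e.le)
  · rw [← (aB.mono_right hT.le (zpowers_le.mpr hρT)).commutator_commutator]
    exact commutator_mono hD le_rfl

theorem Min2.nlt (h : Min2 p r V B ρ) {P : Subgroup Γ} (hPB : P ≤ B) (hP : IsPGroup p P)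
    (hρ : ρ ∈ 𝐍(P)) (h0 : P ≠ ⊥) : B ⊓ 𝐍(P) < B :=
  inf_lt_left.mpr fun e => h0 (h.toLI.eq_bot' hP hPB e hρ)

theorem Min2.exNP (h : Min2 p r V B ρ) (hZ : ∀ N < B, B ≤ 𝐍(N) → ρ ∈ 𝐍(N) → N ≤ 𝐂(B))
    {T P : Subgroup Γ} (hT : IsSyl 2 T B) (hρT : ρ ∈ 𝐍(T)) (hPB : P ≤ B) (hP : IsPGroup p P)
    (hρP : ρ ∈ 𝐍(P)) (hD : ⁅T, zpowers ρ⁆ ≤ 𝐍(P)) (hn : ρ ∉ 𝐂(P)) :
    ∃ H, NP p r V B ρ ⁅T, zpowers ρ⁆ H := by
  have := Fact.mk Nat.prime_two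
  have h0 : ⁅P, zpowers ρ⁆ ≠ ⊥ := fun e => hn (mem_cent_iff_le.mpr (comm_eq_bot_iff.mp e))
  have hP0 : P ≠ ⊥ := fun e => h0 (by rw [e, commutator_bot_left])
  have hDB : ⁅T, zpowers ρ⁆ ≤ B := (comm_zp_le hρT).trans hT.le
  have hDD := (h.toLin0.cact hT.le hρT).commutator_commutator
  have hPP := (h.toLin0.cact hPB hρP).commutator_commutator
  have hB : zpowers ρ ≤ 𝐍(B) := zpowers_le.mpr h.ρB
  have nN : ∀ {K : Subgroup Γ}, ρ ∈ 𝐍(K) → ρ ∈ 𝐍((B ⊓ 𝐍(K) : Subgroup Γ)) := fun c =>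
    le_normalizer_inf hB (le_normalizer_normalizer (zpowers_le.mpr c)) (mem_zpowers ρ)
  have cm : ∀ K < B, ρ ∈ 𝐍(K) → ⁅K, zpowers ρ⁆ < B ∧ ⁅⁅K, zpowers ρ⁆, zpowers ρ⁆ = ⁅K, zpowers ρ⁆ :=
    fun K a c => ⟨(comm_zp_le c).trans_lt a, (h.toLin0.cact a.le c).commutator_commutator⟩
  obtain ⟨L, l1, ⟨l2, l3⟩, l4⟩ := exists_maximal_subgroup
    (P := fun L => L < B ∧ ⁅L, zpowers ρ⁆ = L) (cm _ (h.nlt hPB hP hρP hP0) (nN hρP))
  have lD : ⁅T, zpowers ρ⁆ ≤ L := hDD.ge.trans ((commutator_mono (le_inf hDB hD) le_rfl).trans l1)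
  have lP : ⁅P, zpowers ρ⁆ ≤ L := (commutator_mono (le_inf hPB le_normalizer) le_rfl).trans l1
  have ρL : ρ ∈ 𝐍(L) := l3 ▸ mem_norm_comm L ρ
  have uq : ∀ K < B, ρ ∈ 𝐍(K) → L ≤ K → ⁅K, zpowers ρ⁆ = L := fun K a c d =>
    l4 _ (cm K a c) (l3.ge.trans (commutator_mono d le_rfl))
  have st := h.star l2 ρL lP (hP.to_le (comm_zp_le hρP)) (mem_norm_comm P ρ)
  rw [hPP] at st
  have lt : B ⊓ 𝐍(L) < B := inf_lt_left.mpr fun e => h0 (le_bot_iff.mp (st.trans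
    (h.toLI.eq_bot' (OpOf_isPGroup L) ((OpOf_le L).trans l2.le) (le_normalizer_OpOf e)
      (le_normalizer_OpOf (zpowers_le.mpr ρL) (mem_zpowers ρ))).le))
  have lH : L ≤ B ⊓ 𝐍(L) := le_inf l2.le le_normalizer
  have e := (h.comm_fr hT hρT lt (nN ρL) (lD.trans lH)).symm.trans (uq _ lt (nN ρL) lH)
  refine ⟨B ⊓ 𝐍(L), h, hZ, ⟨T, hT, hρT, rfl⟩, lt, nN ρL, lD.trans lH, fun b => h0 ?_,
    fun K a c d b => le_inf a.le (uq K a c (e.ge.trans (sup_le b d)) ▸ left_le_norm_comm _ _)⟩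
  rw [b, bot_sup_eq] at e
  exact eq_bot_of_isPGroup_of_not_dvd (hP.to_le (comm_zp_le hρP)) (not_dvd_of_isPGroup_ne h.p2.symm
    (hT.isPGroup.to_le ((lP.trans e.ge).trans (comm_zp_le hρT))))

theorem NP.false {D H : Subgroup Γ} (h : NP p r V B ρ D H) : False := by
  have := Fact.mk Nat.prime_two
  obtain ⟨T, hT, hρT, rfl⟩ := h.fr
  have m := h.toMin2
  have aB := m.toLin0.cact le_rfl m.ρB
  obtain ⟨X, hX, n⟩ := (m.toLin0.cact h.lt.le h.inv).exists_isSyl p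
  obtain ⟨S, hS, nS, l⟩ := aB.exists_isSyl_ge hX.isPGroup (hX.le.trans h.lt.le) n
  have hρX := zpowers_le.mp n
  have hUX : OpOf p H ≤ X := OpOf_le_of_isSyl hX
  have hρU : zpowers ρ ≤ 𝐍(OpOf p H) := le_normalizer_OpOf (zpowers_le.mpr h.inv)
  have hX0 : X ≠ ⊥ := fun e => h.ne (le_bot_iff.mp ((comm_le_left hρU).trans (hUX.trans e.le)))
  have lt : X < S := lt_of_le_of_ne l fun e => h.lt.not_ge (by
    subst e
    rw [← m.eq, m.toLin.comm_eq_sup le_rfl m.ρB hT hρT hS hρX]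
    exact sup_le ((comm_le_left n).trans hX.le) h.le)
  have l1 := lt_inf_normalizer_of_isPGroup hS.isPGroup lt
  have hp1 : IsPGroup p (S ⊓ 𝐍(X) : Subgroup Γ) := hS.isPGroup.to_le inf_le_left
  refine l1.ne' (hX.eq_of_le hp1 l1.le ?_)
  by_cases hA : ⁅⁅T, zpowers ρ⁆ ⊓ 𝐂(OpOf p H), zpowers ρ⁆ ≤ 𝐂(X)
  swap
  · exact h.two hX hρX (inf_le_inf_right _ hS.le) hp1
      (le_normalizer_inf nS (le_normalizer_normalizer n) (mem_zpowers ρ)) hA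
  have h1 : ρ ≠ 1 := fun e => not_lt_bot (m.toLin.eq_bot e ▸ h.lt)
  have hZ : ⁅T, zpowers ρ⁆ ≤ 𝐍(ZJT p X) := by
    refine zjs m.p2 (fun e => m.cop (e.symm.dvd.trans ((dvd_card_of_isPGroup_of_ne_bot hX.isPGroup hX0).trans
        (card_dvd_of_le (hX.le.trans h.lt.le))))) (fun e => not_lt_bot (?_ : H < ⊥))
      (m.toLin0.card_eq h1) hX.isPGroup (hT.isPGroup.to_le (comm_zp_le hρT)) hUX
      (le_normalizer_OpOf (hX.le.trans le_normalizer)) (le_normalizer_OpOf (h.le.trans le_normalizer))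
      hρU n (m.toLin0.cact hT.le hρT).commutator_commutator
      ((m.toLin.mono hT.le hρT).sp m.p2 hT.isPGroup) (m.star h.lt h.inv hX.le hX.isPGroup hρX) ?_ hA
    · rw [← m.faith]
      refine h.lt.trans_le (le_inf le_rfl (m.eq.ge.trans ?_))
      exact fpf_two ((m.toLin0.card_eq h1).trans e) m.toLin0.abelem.1 m.BV (zpowers_le.mpr m.ρV)
        m.toLin0.inf_cent
    · have e : OpOf p H ⊔ ⁅T, zpowers ρ⁆ = OpOf p H ⊔ ⁅H, zpowers ρ⁆ := by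
        rw [m.comm_fr hT hρT h.lt h.inv h.le, ← sup_assoc, sup_eq_left.mpr (comm_le_left hρU)]
      rw [e]
      exact hX.le.trans (le_normalizer_sup (le_normalizer_OpOf le_normalizer) (left_le_norm_comm _ _))
  have hρZ := normalizer_le_normalizer_ZJT (n := p) X hρX
  refine le_trans (le_inf (inf_le_left.trans hS.le) (inf_le_right.trans
    (normalizer_le_normalizer_ZJT X))) (h.uq _ (m.nlt ((ZJT_le X).trans (hX.le.trans h.lt.le))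
      (hX.isPGroup.to_le (ZJT_le X)) hρZ (ZJT_ne_bot dvd_rfl hX.isPGroup hX0))
    (le_normalizer_inf (zpowers_le.mpr m.ρB) (le_normalizer_normalizer (zpowers_le.mpr hρZ))
      (mem_zpowers ρ)) (le_inf (h.le.trans h.lt.le) hZ) ?_)
  exact ((comm_le_left hρU).trans hUX).trans (le_inf (hX.le.trans h.lt.le) (le_normalizer_ZJT X))

theorem Min2.nop (h : Min2 p r V B ρ) (hZ : ∀ N < B, B ≤ 𝐍(N) → ρ ∈ 𝐍(N) → N ≤ 𝐂(B))
    {T P : Subgroup Γ} (hT : IsSyl 2 T B) (hρT : ρ ∈ 𝐍(T)) (hPB : P ≤ B) (hP : IsPGroup p P)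
    (hρP : ρ ∈ 𝐍(P)) (hD : ⁅T, zpowers ρ⁆ ≤ 𝐍(P)) : ρ ∈ 𝐂(P) := by
  by_contra hn
  obtain ⟨H, hH⟩ := h.exNP hZ hT hρT hPB hP hρP hD hn
  exact hH.false

end Cfsg.Agent.Lib.Fl
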