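/- The general Hall-Higman-Shult theorem: passage to the simple quotient. -/
import Cfsg.Agent.Lib.Fl.CLift
import Cfsg.Agent.Lib.Glaub.Burnside
import Cfsg.Agent.Lib.Fl.HB
import Cfsg.Agent.Lib.Fl.HNop

set_option autoImplicit false
set_option linter.unusedSectionVars false

namespace Cfsg.Agent.Lib.Fl

open Subgroup Cfsg.Agent.Lib.Core Cfsg.Agent.Lib.Glaub Cfsg.Agent.Lib.ZJ Cfsg.Agent.FT
open scoped commutatorElement

universe u
variable {Γ : Type u} [Group Γ] [Finite Γ] {p r : ℕ} [hp : Fact p.Prime] [hr : Fact r.Prime]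
variable {V B : Subgroup Γ} {ρ : Γ}

theorem simple_of_inv' {Y : Subgroup Γ} (h1 : ρ ^ r = 1) (h2 : ρ ∈ 𝐍(Y)) (h3 : ¬ r ∣ Nat.card Y)
    (hn : ¬ Y ≤ 𝐂(Y))
    (ho : ∀ s : ℕ, s.Prime → s ≠ 2 → s ≠ p → ∀ U ≤ Y, IsPGroup s U → ρ ∈ 𝐍(U) → ρ ∈ 𝐂(U))
    (hs : ∀ N ≤ Y, Y ≤ 𝐍(N) → ρ ∈ 𝐍(N) → N = ⊥ ∨ N = Y) : ∀ N ≤ Y, Y ≤ 𝐍(N) → N = ⊥ ∨ N = Y := by
  intro N₀ h0 h1'
  by_contra! h2'
  obtain ⟨N, hN0, ⟨hN, hN1⟩, hmin⟩ := exists_minimal_subgroup
    (P := fun N => Y ≤ 𝐍(N) ∧ N ≠ ⊥) ⟨h1', h2'.1⟩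
  have hNY := hN0.trans h0
  have hρ : ρ ∉ 𝐍(N) := fun e =>
    (hs N hNY hN e).elim hN1 fun e' => h2'.2 (h0.antisymm (e' ▸ hN0))
  have hY : zpowers ρ ≤ 𝐍(Y) := zpowers_le.mpr h2
  have a1 : Y ≤ 𝐍(cj(ρ, N)) := by
    rw [← map_conj_normalizer, ← map_conj_eq_iff.mpr h2]
    exact map_mono hN
  have a3 : cj(ρ, N) ⊓ N = ⊥ := by
    by_contra e
    have a4 := hmin _ ⟨le_normalizer_inf a1 hN, e⟩ inf_le_right
    exact hρ (map_conj_eq_iff.mp
      (eq_of_le_of_card_ge (a4.ge.trans inf_le_left) (card_map_conj N _).le).symm)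
  have hns : ¬ Group.IsSolvable N := fun e => by
    obtain ⟨q, hq, e⟩ := exists_OpOf_ne_bot_of_isSolvable e hN1
    have := Fact.mk hq
    rcases hs _ (OpOf_le (p := q) Y) (le_normalizer_OpOf le_normalizer)
      (le_normalizer_OpOf hY (mem_zpowers ρ)) with a | a
    · exact e (le_bot_iff.mp ((OpOf_mono_of_normal hNY hN).trans a.le))
    · have a3 := OpOf_eq_self_iff.mp a
      rcases hs (Zc Y) inf_le_left (Zc_nrm Y).norm (norm_le_norm_Zc Y h2) with b | b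
      · exact inf_centralizer_ne_bot a3 a3 le_normalizer (ne_bot_of_le hNY hN1) b
      · exact hn (b.ge.trans inf_le_right)
  obtain ⟨s, hs1, hs2, hs3⟩ : ∃ s : ℕ, s.Prime ∧ s ∣ Nat.card N ∧ ¬ (s = 2 ∨ s = p) := by
    by_contra! e
    exact hns (isSolvable_of_two_primes Nat.prime_two hp.out N e)
  have := Fact.mk hs1
  obtain ⟨P, hP, n⟩ := (coprimeAct_zpowers h1 h2 h3).exists_isSyl s
  have c := ho s hs1 (fun e => hs3 (.inl e)) (fun e => hs3 (.inr e)) P hP.le hP.isPGroup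
    (n (mem_zpowers ρ))
  refine (hP.inf_normal hNY hN).ne_bot hs2 (eq_bot_iff.mpr fun x hx => a3.le ⟨?_, hx.2⟩)
  have e : ρ * x * ρ⁻¹ = x := by rw [← c x hx.1, mul_inv_cancel_right]
  exact e ▸ conj_mem_map_conj.mpr hx.2

theorem Min2.sc (h : Min2 p r V B ρ) :
    ∃ (Γ' : Type u) (_ : Group Γ') (_ : Finite Γ') (Y : Subgroup Γ'), Fl2.SC p r Y := by
  have hp2 := h.p2
  have hZ : Zc B ≤ 𝐂(B) := inf_le_right
  have hO := Zc_nrm B
  have hpO : ¬ p ∣ Nat.card (Zc B) := fun e => by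
    obtain ⟨P, hP⟩ := exists_isSyl p (Zc B)
    refine hP.ne_bot e (le_bot_iff.mp (h.toLI.op ▸ le_OpOf (hP.le.trans hO.le) ?_ hP.isPGroup))
    exact (cent_comm.mp (hP.le.trans hZ)).trans (cent_le_norm _)
  have hBX := Nrm.sup_left (zpowers_le.mpr h.ρB)
  have hρX : ρ ∈ B ⊔ zpowers ρ := mem_sup_right (mem_zpowers ρ)
  have hd : p ∣ Nat.card B := by
    by_contra e
    exact h.bad (OupOf_eq_bot_iff.mpr e ▸ IsPGroup.of_bot)
  have hρ1 : ρ ≠ 1 := fun e => hp.out.not_dvd_one (by rwa [h.toLin.eq_bot e, card_bot] at hd)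
  have hL := sdp_sup (zpowers_le.mpr h.ρB) (coprime_inf_eq_bot h.coprime)
  obtain ⟨Q, _, _, f, hf, hk, -⟩ := exists_bar (hO.le.trans hBX.le)
    (hBX.norm.trans (norm_le_norm_Zc B))
  have hkB : kerOf f ≤ B := hk ▸ hO.le
  have hN : (bar f B).Normal := nrm_top_iff.mp (bar_self f hf ▸ hBX.bar f)
  have hi : (bar f B).index = r := by
    rw [← relIndex_top_right, ← bar_self f hf, relIndex_bar_of_le f le_sup_left le_rfl hkB,
      hL.relIndex_left, h.card_eq hρ1]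
  have hc : ¬ r ∣ Nat.card (bar f B) := not_dvd_card_bar f h.cop
  have hnab : ¬ bar f B ≤ 𝐂(bar f B) := fun e => by
    have h1 := AbMod.nilMod (H := B) (N := Zc B)
      (hk ▸ (bar_le_centralizer_iff f hBX.le hBX.le).mp e)
    have h2 := (dp_OpOf_of_isNilpotent p (h1.isNilpotent_of_cent hZ)).sup
    rw [h.toLI.op, bot_sup_eq] at h2
    exact OppOf_not_dvd B (h2.symm ▸ hd)
  -- subgroups of order `r`
  have hR : ∀ R : Subgroup Q, Nat.card R = r → ∃ (σ : Γ) (hσ : σ ∈ B ⊔ zpowers ρ),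
      Min2 p r V B σ ∧ R = zpowers (f ⟨σ, hσ⟩) := fun R hR => by
    have h1 : Nat.card (bar f (zpowers ρ)) = r := by
      rw [card_bar_of_inf_eq_bot f le_sup_right (le_bot_iff.mp ((inf_le_inf_right _ hkB).trans
        hL.inf.le)), h.card_eq hρ1]
    have h2 : IsSyl r (bar f (zpowers ρ)) ⊤ := ⟨le_top, isPGroup_of_card_eq h1, by
      rwa [← bar_self f hf, (hL.bar_of_le le_rfl hkB).relIndex_right]⟩
    obtain ⟨g, -, h3⟩ := h2.exists_conj (h2.of_card_le (isPGroup_of_card_eq hR) le_top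
      (h1.trans hR.symm).le)
    obtain ⟨⟨g, hg⟩, rfl⟩ := hf g
    obtain ⟨b, hb, c, hc, rfl⟩ := hL.mem hg
    have h4 : b * ρ * b⁻¹ ∈ B ⊔ zpowers ρ :=
      mul_mem (mul_mem (mem_sup_left hb) hρX) (inv_mem (mem_sup_left hb))
    refine ⟨_, h4, h.cj hb, ?_⟩
    rw [← h3, ← bar_cj f _ hg, ← bar_zpowers' f h4, ← cj_zpowers, ← cj_cj, cj_eq_of_mem hc]
  have hodd : ∀ (σ : Γ) (hσ : σ ∈ B ⊔ zpowers ρ), Min2 p r V B σ → ∀ s : ℕ, s.Prime → s ≠ 2 →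
      s ≠ p → ∀ U ≤ bar f B, IsPGroup s U → zpowers (f ⟨σ, hσ⟩) ≤ 𝐍(U) →
      U ≤ 𝐂(zpowers (f ⟨σ, hσ⟩)) := fun σ hσ h' s hs hs2 hsp U h1 h2 h3 => by
    haveI := Fact.mk hs
    obtain ⟨U, h4, h5, h6, rfl⟩ := h'.lift hf hBX.le hσ hkB h1 h2 h3
    rw [← bar_zpowers' f hσ]
    exact bar_le_centralizer f (mem_cent_iff_le.mp ((h'.toLin.mono h4 h6).loc_odd hsp hs2 h5))
  refine ⟨Q, inferInstance, inferInstance, bar f B, hp2, hN, hi, hc,
    simple_of_inv' (p := p) (r := r) (ρ := f ⟨ρ, hρX⟩) (by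
      rw [← map_pow, show (⟨ρ, hρX⟩ : ↥(B ⊔ zpowers ρ)) ^ r = 1 from Subtype.ext h.pow, map_one])
      (by rw [normalizer_eq_top]; trivial) hc hnab (fun s a b c U d e g => mem_cent_iff_le.mpr
        (hodd ρ hρX h s a b c U d e (zpowers_le.mpr g))) fun N h1 h2 h3 => ?_, hnab,
    fun R hR' => ?_, fun R hR' H h1 h2 => ?_, fun R hR' T hT h1 P h2 h3 h4 h5 => ?_,
    fun R hR' => ?_,
    fun R hR' U h1 h2 h3 => ?_, fun R hR' A hA U h1 h2 h3 => ?_, fun R hR' A hA c hc ho => ?_⟩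
  · refine or_iff_not_imp_right.mpr fun e => ?_
    have h4 := unbar_le_of_le_bar f hBX.le hkB h1
    rw [← bar_unbar f hf N, bar_eq_bot_iff f (unbar_le f N), hk]
    exact le_inf h4 (h.hZ _ (h4.lt_of_ne fun e' => e ((bar_unbar f hf N).symm.trans
      (congrArg _ e'))) (le_norm_unbar f hBX.le h2) (le_norm_unbar f le_sup_right
        (by rwa [bar_zpowers' f hρX, zpowers_le]) (mem_zpowers ρ)))
  · obtain ⟨σ, hσ, h', rfl⟩ := hR R hR'
    rw [← bar_comm_zp f hBX.le hσ, h'.eq]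
  · obtain ⟨σ, hσ, h', rfl⟩ := hR R hR'
    have h3 : σ ∈ 𝐍(unbar f H) :=
      le_norm_unbar f (zpowers_le.mpr hσ) (by rwa [bar_zpowers' f hσ]) (mem_zpowers σ)
    rw [← bar_unbar f hf H, ← bar_comm_zp f (unbar_le f H) hσ,
      ← bar_OupOf f ((comm_zp_le h3).trans (unbar_le f H))]
    exact isPGroup_bar f (h'.prop _ ((unbar_le_of_le_bar f hBX.le hkB h1.le).lt_of_ne
      fun e => h1.ne ((bar_unbar f hf H).symm.trans (congrArg _ e))) h3)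
  · obtain ⟨σ, hσ, h', rfl⟩ := hR R hR'
    obtain ⟨T₀, t1, t2, t3, rfl⟩ := h'.lift hf hBX.le hσ hkB hT.le hT.isPGroup h1
    obtain ⟨T, t4, t5, t6⟩ := (h'.toLin0.act le_rfl h'.ρB).exists_isSyl_ge t2 t1 (zpowers_le.mpr t3)
    rw [← hT.eq_of_le (isPGroup_bar f t4.isPGroup) (bar_mono f t6) (bar_mono f t4.le),
      ← bar_comm_zp f (t4.le.trans hBX.le) hσ] at h5
    have h6 := unbar_le_of_le_bar f hBX.le hkB h2
    have h7 := h'.nop h'.hZ t4 (zpowers_le.mp t5) ((OpOf_le (p := p) _).trans h6) (OpOf_isPGroup _)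
      (le_normalizer_OpOf (le_norm_unbar f (zpowers_le.mpr hσ) (by rwa [bar_zpowers' f hσ]))
        (mem_zpowers σ)) (le_normalizer_OpOf (le_norm_unbar f
          ((comm_le_left t5).trans (t4.le.trans hBX.le)) h5))
    obtain ⟨P, p1, p2, -, rfl⟩ := h'.lift hf hBX.le hσ hkB h2 h3 h4
    rw [unbar_bar f (p1.trans hBX.le)] at h7
    rw [← bar_zpowers' f hσ]
    exact bar_le_centralizer f ((le_OpOf le_sup_left (sup_le le_normalizer (hk.le.trans (hZ.trans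
      ((cent_anti p1).trans (cent_le_norm _))))) p2).trans (mem_cent_iff_le.mp h7))
  · obtain ⟨σ, hσ, h', rfl⟩ := hR R hR'
    exact hodd σ hσ h'
  · obtain ⟨σ, hσ, h', rfl⟩ := hR R hR'
    obtain ⟨U, h4, h5, h6, rfl⟩ := h'.lift hf hBX.le hσ hkB h1 h2 h3
    have h7 := (h'.toLin.mono h4 h6).sp hp2 h5
    have h8 : ⁅U, zpowers σ⁆ ≤ B := (comm_le_left (zpowers_le.mpr h6)).trans h4
    have h9 := bar_inf_cent_zpowers f (h8.trans hBX.le) hσ h'.pow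
      (right_le_norm_comm U _ (mem_zpowers σ)) (not_dvd_card_of_le h'.cop h8)
    rw [← bar_zpowers' f hσ] at h9 ⊢
    rw [← bar_commutator f (h4.trans hBX.le) (zpowers_le.mpr hσ)]
    generalize ⁅U, zpowers σ⁆ = W at h7 h8 h9
    refine ⟨h9.trans (bar_le_centralizer f h7.cent), fun q hq => ?_, ?_, ?_⟩
    · obtain ⟨x, hx, rfl⟩ := h9 hq
      rw [← map_mul, show x * x = 1 from Subtype.ext (h7.el x hx), map_one]
    · rintro _ ⟨x, hx, rfl⟩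
      rw [← map_mul]
      exact bar_le_centralizer f le_rfl (mem_bar_of_mem f (h7.sq x hx))
    · rw [← bar_commutator f (h8.trans hBX.le) (h8.trans hBX.le)]
      exact bar_le_centralizer f h7.comm
  · obtain ⟨σ, hσ, h', rfl⟩ := hR R hR'
    obtain ⟨U, h4, h5, h6, rfl⟩ := h'.lift hf hBX.le hσ hkB (h1.trans inf_le_left) h2 h3
    obtain ⟨A, a1, a2, a3, a4, a5, rfl⟩ := h'.liftPS hf hBX.le hσ hkB
      ⟨hA.le, hA.two, hA.ne, hA.ab, hA.inv, hA.eq⟩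
    rw [← bar_zpowers' f hσ, ← bar_commutator f (h4.trans hBX.le) (zpowers_le.mpr hσ)]
    exact bar_mono f (h'.toLI.toIrr.ab' hp2 a1 a2 a3 a4 (a5.trans (hk.le.trans hZ)) h4 h5 h6
      (((bar_le_centralizer_iff f (h4.trans hBX.le) (a1.trans hBX.le)).mp
        (h1.trans inf_le_right)).trans (hk.le.trans hZ)))
  · obtain ⟨σ, hσ, h', rfl⟩ := hR R hR'
    obtain ⟨A, a1, a2, a3, a4, a5, rfl⟩ := h'.liftPS hf hBX.le hσ hkB
      ⟨hA.le, hA.two, hA.ne, hA.ab, hA.inv, hA.eq⟩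
    obtain ⟨x, hx, rfl⟩ := bar_inf_cent_zpowers f hBX.le hσ h'.pow h'.ρB h'.cop ⟨hc.1.1, hc.2⟩
    have h1 : (x : Γ) ∈ 𝐍(A) := by
      have h2 := le_normalizer_sup_kerOf f (zpowers_le.mpr x.2) (a1.trans hBX.le)
        (by rw [bar_zpowers, zpowers_le]; exact hc.1.2)
      have h3 : kerOf f ≤ 𝐂(zpowers σ) := mem_cent_iff_le.mp ((h'.toLin.mono hkB
        (le_normalizer_kerOf f hσ)).loc_ab (hk ▸ hpO) (hk.le.trans (hZ.trans (cent_anti hkB))))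
      have h4 := le_normalizer_commutator h2 ((zpowers_le.mpr hx.2).trans (cent_le_norm _))
      rw [comm_sup_cent h3 (a3.symm ▸ hk.le.trans (hZ.trans ((cent_anti a1).trans
        (cent_le_norm _)))), a3] at h4
      exact h4 (mem_zpowers _)
    obtain ⟨k, m, hm, e⟩ := Nat.exists_eq_two_pow_mul_odd (orderOf_pos (x : Γ)).ne'
    have h2 := h'.toLI.toIrr.zc' hp2 a1 a2 a3 a4 (a5.trans (hk.le.trans hZ)) (pow_mem hx.1 (2 ^ k))
      (pow_mem h1 _) (pow_mem hx.2 (2 ^ k) σ (mem_zpowers σ)) (hm.of_dvd_nat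
        (orderOf_dvd_of_pow_eq_one (by rw [← pow_mul, ← e]; exact pow_orderOf_eq_one _)))
    have h3 : f x ^ 2 ^ k ∈ 𝐂(bar f A) := by
      rw [← map_pow]
      exact bar_le_centralizer f le_rfl (mem_bar_of_mem f (x := x ^ 2 ^ k) h2)
    exact zpowers_le.mpr h3 (mem_zpowers_pow_iff.mpr
      (Nat.Coprime.pow_left k (Nat.coprime_two_left.mpr ho)))

end Cfsg.Agent.Lib.Fl
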