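/-
The general Hall-Higman-Shult theorem.
-/
import Cfsg.Agent.Lib.Fl.HLift
import Cfsg.Agent.Lib.Fl.Red1
import Cfsg.Agent.Lib.Fl2.CSF

set_option autoImplicit false
set_option linter.unusedSectionVars false

namespace Cfsg.Agent.Lib.Fl

open Subgroup Cfsg.Agent.Lib.Core Cfsg.Agent.Lib.Glaub Cfsg.Agent.Lib.ZJ Cfsg.Agent.FT
open scoped commutatorElement

universe u
variable {Γ : Type u} [Group Γ] [Finite Γ] {p r : ℕ} [hp : Fact p.Prime] [hr : Fact r.Prime]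
variable {V B : Subgroup Γ} {ρ : Γ}

theorem Lin.hhs0 (h : Lin p r V B ρ) : IsPGroup p (OupOf p ⁅B, zpowers ρ⁆) :=
  hhs_of_min (fun _ _ _ _ _ _ m => by
    obtain ⟨Γ', _, _, Y, hY⟩ := m.sc
    exact hY.false) h

/-- if `O_p(B) = 1` then `[B, ρ]` is a `2`-group -/
theorem Lin.hhs (h : Lin p r V B ρ) (hO : OpOf p B = ⊥) : IsPGroup 2 ↥⁅B, zpowers ρ⁆ := by
  have n := zpowers_le.mpr h.ρB
  have h1 : OupOf p ⁅B, zpowers ρ⁆ = ⊥ := le_bot_iff.mp ((le_OpOf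
    ((OupOf_le _).trans (comm_le_left n)) (le_normalizer_OupOf (left_le_norm_comm _ _))
      h.hhs0).trans hO.le)
  have := (h.mono (comm_le_left n) (right_le_norm_comm _ _ (mem_zpowers ρ))).loc_two
    (OupOf_eq_bot_iff.mp h1)
  rwa [(coprimeAct_zpowers h.pow h.ρB h.cop).commutator_commutator] at this

theorem hhs : HHS.{u} r := fun _ _ _ _ _ _ _ _ h hO _ hB he =>
  eq_bot_of_perf hB (isSolvable_of_isNilpotent (he ▸ h.hhs hO).isNilpotent)

end Cfsg.Agent.Lib.Fl
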