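/- Coprime automorphisms of prime order: local components. -/
import Cfsg.Agent.Lib.Fl.Red1
import Cfsg.Agent.Lib.Core.Diagonal

set_option autoImplicit false
set_option linter.unusedSectionVars false

namespace Cfsg.Agent.Lib.Fl

open Subgroup Cfsg.Agent.Lib.Core Cfsg.Agent.Lib.Glaub Cfsg.Agent.Lib.ZJ Cfsg.Agent.FT
open scoped commutatorElement

universe u
variable {Γ : Type u} [Group Γ] [Finite Γ] {r : ℕ} [hr : Fact r.Prime]
variable {G K A : Subgroup Γ} {ρ : Γ}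

/-- the subgroup generated by the `A`-conjugates of `K` -/
def ncl (A K : Subgroup Γ) : Subgroup Γ := ⨆ g : A, cj((g : Γ), K)

theorem cj_le_ncl {g : Γ} (hg : g ∈ A) : cj(g, K) ≤ ncl A K :=
  le_iSup (fun g : A => cj((g : Γ), K)) ⟨g, hg⟩

theorem le_ncl : K ≤ ncl A K := (cj_one K).ge.trans (cj_le_ncl A.one_mem)

theorem ncl_le {X : Subgroup Γ} (h : ∀ g ∈ A, cj(g, K) ≤ X) : ncl A K ≤ X :=
  iSup_le fun g => h g g.2

theorem ncl_le' {X : Subgroup Γ} (h : K ≤ X) (hA : A ≤ 𝐍(X)) : ncl A K ≤ X :=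
  ncl_le fun _ hg => cj_le_of_le h (hA hg)

theorem norm_ncl : A ≤ 𝐍(ncl A K) := fun g hg => cj_eq_iff.mp (eq_of_le_of_card_ge
  (cj_le_iff_le_cj_inv.mpr (ncl_le fun a ha => cj_le_iff_le_cj_inv.mp
    ((cj_cj K g a).le.trans (cj_le_ncl (mul_mem hg ha))))) (card_cj _ _).ge)

theorem cent_of_perf {L X : Subgroup Γ} (hL : ⁅L, L⁆ = L) (h : ⁅X, L⁆ ≤ 𝐂(L)) : X ≤ 𝐂(L) :=
  comm_eq_bot_iff.mp (commutator_eq_bot_of_perfect hL (comm_eq_bot_iff.mpr h))

/-- `K` is quasisimple and commutes with its other conjugates under `R C_G(R)`. -/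
structure LC (r : ℕ) (G K A : Subgroup Γ) (ρ : Γ) : Prop where
  pow : ρ ^ r = 1
  ρG : ρ ∈ 𝐍(G)
  cop : ¬ r ∣ Nat.card G
  le : K ≤ G
  qs : QS K
  eq : A = zpowers ρ ⊔ (G ⊓ 𝐂(zpowers ρ))
  comm : ∀ g ∈ A, cj(g, K) ≠ K → ⁅K, cj(g, K)⁆ = ⊥

namespace LC
variable (h : LC r G K A ρ)
include h

theorem RA : zpowers ρ ≤ A := h.eq ▸ le_sup_left
theorem CA : G ⊓ 𝐂(zpowers ρ) ≤ A := h.eq ▸ le_sup_right
theorem RG : zpowers ρ ≤ 𝐍(G) := zpowers_le.mpr h.ρG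
theorem AG : A ≤ 𝐍(G) := h.eq ▸ sup_le h.RG (inf_le_left.trans le_normalizer)
theorem nclG : ncl A K ≤ G := ncl_le' h.le h.AG

theorem norm {g : Γ} (hg : g ∈ A) : ncl A K ≤ 𝐍(cj(g, K)) := ncl_le fun a ha => by
  rw [← mul_inv_cancel_left g a, ← cj_cj, cj_le_norm_cj]
  by_cases e : cj(g⁻¹ * a, K) = K
  · exact e.le.trans le_normalizer
  · exact (cent_comm.mp (comm_eq_bot_iff.mp (h.comm _ (mul_mem (inv_mem hg) ha) e))).trans
      (cent_le_norm _)

theorem comp {g : Γ} (hg : g ∈ A) : Comp (ncl A K) cj(g, K) :=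
  ⟨h.qs.conj g, Subn.of_normal (cj_le_ncl hg) (h.norm hg)⟩

theorem comp' : Comp (ncl A K) K := by
  have := h.comp A.one_mem
  rwa [cj_one] at this

theorem key (H : HHS.{u} r) (hK : ¬ K ≤ 𝐂(zpowers ρ)) {M : Subgroup Γ} (hM : M ≤ G)
    (h1 : ncl A K ≤ 𝐍(M)) (h2 : zpowers ρ ≤ 𝐍(M)) : K ≤ M ∨ M ≤ 𝐂(K) := by
  refine or_iff_not_imp_left.mpr fun h3 => ?_
  have hB : ncl (zpowers ρ) K ≤ ncl A K := ncl_le fun g hg => cj_le_ncl (h.RA hg)
  have hR : zpowers ρ ≤ 𝐍(ncl (zpowers ρ) K) := norm_ncl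
  refine (PA.cent H ⟨h.pow, h2 (mem_zpowers ρ), hR (mem_zpowers ρ), hB.trans h1,
    fun e => h.cop (e.trans (card_dvd_of_le hM)),
    fun e => h.cop (e.trans (card_dvd_of_le (hB.trans h.nclG))),
    le_antisymm (comm_le_left le_normalizer) (ncl_le fun g hg => (h.qs.conj g).perfect.ge.trans
      (commutator_mono (cj_le_ncl hg) (cj_le_ncl hg))),
    le_antisymm (comm_le_left hR) (ncl_le' ?_ (le_normalizer_commutator hR le_normalizer)),
    cent_comm.mp (ncl_le fun g hg => cent_comm.mp (cent_of_perf (h.qs.conj g).perfect ?_))⟩).trans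
    (cent_anti le_ncl)
  · refine ((h.comp'.mono le_ncl hB).le_or_le_centralizer (Subn.of_normal (comm_le_left hR)
      (normalizer_commutator_ge_left _ _))).resolve_right fun e => hK (cent_comm.mp
        (cent_of_perf h.qs.perfect ?_))
    rw [commutator_comm]
    exact (commutator_mono le_ncl le_rfl).trans e
  · have h4 := cj_le_ncl (K := K) (h.RA hg)
    refine le_trans (le_inf ?_ ?_) (((h.comp (h.RA hg)).le_or_le_centralizer (U := ncl A K ⊓ M)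
      (Subn.of_normal inf_le_left (le_normalizer_inf le_normalizer h1))).resolve_left fun e => h3 ?_)
    · exact (commutator_mono le_rfl h4).trans
        (comm_le_right (((inf_le_inf_right _ hM).trans h.CA).trans norm_ncl))
    · exact (commutator_mono inf_le_left le_rfl).trans (comm_le_left (h4.trans h1))
    · rw [← cj_inv_cj K g]
      exact cj_le_of_le (e.trans inf_le_right) (h2 (inv_mem hg))

theorem le_E (H : HHS.{u} r) (hK : ¬ K ≤ 𝐂(zpowers ρ)) : K ≤ EOf G := by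
  have hF : ¬ K ≤ fittingOf G := fun e => h.qs.not_isSolvable
    (isSolvable_of_le (isSolvable_of_isNilpotent (fittingOf_isNilpotent G)) e)
  have hn : ncl A K ≤ 𝐍(G) := h.nclG.trans le_normalizer
  refine (h.key H hK (EOf_le G) (le_normalizer_EOf hn) (le_normalizer_EOf h.RG)).resolve_right
    fun e => hF (le_fittingOf_of_le_centralizer h.le (cent_comm.mp e) (cent_comm.mp ?_))
  exact (h.key H hK (fittingOf_le G) (le_normalizer_fittingOf hn)
    (le_normalizer_fittingOf h.RG)).resolve_left hF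

theorem comp_cent (hK : K ≤ 𝐂(zpowers ρ)) : Comp (G ⊓ 𝐂(zpowers ρ)) K :=
  h.comp'.of_subn (Subn.of_normal (ncl_le' (le_inf h.le hK) (h.eq ▸ sup_le
    (le_normalizer_inf h.RG (le_normalizer_centralizer le_normalizer)) le_normalizer))
    (h.CA.trans norm_ncl))

theorem cyc (H : HHS.{u} r) (hK : ¬ K ≤ 𝐂(zpowers ρ)) {L : Subgroup Γ} (hL : Comp G L)
    (hLK : ¬ K ≤ 𝐂(L)) (hρ : ρ ∉ 𝐍(L)) : K = L := by
  have hE := h.le_E H hK
  have hAE : A ≤ 𝐍(EOf G) := le_normalizer_EOf h.AG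
  have hE' : ncl A K ≤ EOf G := ncl_le' hE hAE
  have hgen : ∀ g ∈ zpowers ρ, g ≠ 1 → ∀ X : Subgroup Γ, g ∈ 𝐍(X) → zpowers ρ ≤ 𝐍(X) :=
    fun g hg h1 X hX => (zpowers_eq_of_card_prime (by
      rw [Nat.card_zpowers, orderOf_eq_prime h.pow fun e => hρ (e ▸ one_mem _)]
      exact hr.out) hg h1).ge.trans (zpowers_le.mpr hX)
  have hc : ∀ g ∈ zpowers ρ, g ≠ 1 → cj(g, L) ≤ 𝐂(L) := fun g hg h1 =>
    (hL.conj (h.RG hg)).le_centralizer_of_ne hL fun e =>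
      hρ (hgen g hg h1 L (cj_eq_iff.mp e) (mem_zpowers ρ))
  obtain ⟨δ, d1, d2, -⟩ := exists_diag hc
  set Z := EOf G ⊓ 𝐂(L) with hZ
  set L' := ⨆ g : {g : zpowers ρ // g ≠ 1}, cj(((g : zpowers ρ) : Γ), L) with hL'
  have hL'Z : L' ≤ Z := iSup_le fun g => le_inf (hL.conj (h.RG g.1.2)).le_EOf
    (hc _ g.1.2 fun e => g.2 (Subtype.ext e))
  have hEZ : EOf G ≤ 𝐍(Z) :=
    le_normalizer_inf le_normalizer (le_normalizer_centralizer hL.EOf_le_normalizer)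
  have hZE : Z ≤ EOf G := inf_le_left
  have dE : ∀ l, δ l ∈ EOf G := fun l => by
    obtain ⟨c, hc, e⟩ := d2 l
    exact e ▸ mul_mem (hL.le_EOf l.2) (hZE (hL'Z hc))
  have dA : ∀ l, δ l ∈ A := fun l => h.CA ⟨EOf_le G (dE l), d1 l⟩
  have hN : EOf G ≤ 𝐍(ncl A K ⊔ Z) := hL.EOf_le_sup_centralizer.trans (sup_le (fun l hl => by
    obtain ⟨c, hc, e⟩ := d2 ⟨l, hl⟩
    have : l = δ ⟨l, hl⟩ * c⁻¹ := by rw [e, mul_inv_cancel_right]
    rw [this]
    exact mul_mem (le_normalizer_sup (zpowers_le.mpr (norm_ncl (dA _)))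
      (zpowers_le.mpr (hEZ (dE _))) (mem_zpowers _))
      (le_normalizer (mem_sup_right (inv_mem (hL'Z hc))))) (le_sup_right.trans le_normalizer))
  have cov : ∀ g ∈ A, ¬ cj(g, K) ≤ 𝐂(L) → L ≤ cj(g, K) ⊔ Z := fun g hg hn => by
    have h1 : cj(g, K) ≤ EOf G := (cj_le_ncl hg).trans hE'
    refine ((comp_EOf_iff.mpr hL).le_or_le_centralizer ((Subn.of_normal (sup_le hE' hZE) hN).normal
      (sup_le_sup_right (cj_le_ncl hg) _) (sup_le (le_normalizer_sup (h.norm hg) (hE'.trans hEZ))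
        (le_sup_right.trans le_normalizer)))).resolve_right fun e => hn (le_sup_left.trans e)
  have two : ∀ g ∈ A, ¬ cj(g, K) ≤ 𝐂(L) → g ∈ 𝐍(K) := fun g hg hn => by
    by_contra e
    have h1 := h.comm g hg fun e' => e (cj_eq_iff.mp e')
    have h2 : cj(g, K) ≤ EOf G := (cj_le_ncl hg).trans hE'
    have h3 := cov 1 A.one_mem (by rwa [cj_one])
    rw [cj_one] at h3
    refine hL.qs.not_le_centralizer (hL.qs.perfect.ge.trans ((commutator_mono h3 (cov g hg hn)).trans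
      ((commutator_sup_left_le ?_ (comm_le_left ((sup_le h2 hZE).trans hEZ))
        ((sup_le hE hZE).trans hEZ)).trans inf_le_right)))
    rw [commutator_comm]
    exact commutator_sup_left_le ((commutator_comm _ _).le.trans (h1.le.trans bot_le))
      (comm_le_left (hE.trans hEZ)) ((sup_le h2 hZE).trans hEZ)
  by_cases hi : ∀ g ∈ zpowers ρ, g ≠ 1 → K ≤ 𝐂(cj(g, L))
  · have h1 : K ≤ ncl (zpowers ρ) L := (h.key H hK (ncl_le' hL.le h.RG) (fun x hx => cj_eq_iff.mp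
      (eq_of_le_of_card_ge (cj_le_iff_le_cj_inv.mpr (ncl_le fun g hg => cj_le_iff_le_cj_inv.mp
        ((cj_eq_of_mem_norm ((hL.conj (h.RG hg)).EOf_le_normalizer (hE' hx))).le.trans
          (cj_le_ncl hg)))) (card_cj _ _).ge)) norm_ncl).resolve_right fun e =>
            hLK (cent_comm.mp (le_ncl.trans e))
    have h2 : ncl (zpowers ρ) L ≤ L ⊔ L' := ncl_le fun g hg => by
      by_cases e : g = 1
      · rw [e, cj_one]; exact le_sup_left
      · exact le_sup_of_le_right (le_iSup (fun g : {g : zpowers ρ // g ≠ 1} =>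
          cj(((g : zpowers ρ) : Γ), L)) ⟨⟨g, hg⟩, fun e' => e (congrArg Subtype.val e')⟩)
    have h3 : L' ≤ 𝐂(K) := iSup_le fun g => cent_comm.mp (hi _ g.1.2 fun e => g.2 (Subtype.ext e))
    have h4 : K ≤ L := h.qs.perfect.ge.trans ((commutator_mono (h1.trans h2) le_rfl).trans
      (commutator_sup_left_le (comm_le_left (hE.trans hL.EOf_le_normalizer))
        ((comm_eq_bot_iff.mpr h3).le.trans bot_le)
        ((sup_le hL.le_EOf (hL'Z.trans hZE)).trans hL.EOf_le_normalizer)))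
    have h5 := cov 1 A.one_mem (by rwa [cj_one])
    rw [cj_one] at h5
    exact (hL.qs.subn_dichotomy (Subn.of_normal h4 (h5.trans (sup_le le_normalizer
      ((inf_le_right.trans (cent_anti h4)).trans (cent_le_norm _)))))).resolve_left hLK
  push Not at hi
  obtain ⟨g, hg, h1, h2⟩ := hi
  have hRK : zpowers ρ ≤ 𝐍(K) := hgen g⁻¹ (inv_mem hg) (inv_ne_one.mpr h1) K
    (two _ (h.RA (inv_mem hg)) fun e => h2 (by rwa [← cj_le_cent_cj (g := g), cj_cj_inv] at e))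
  have dK : ∀ l, δ l ∈ 𝐍(K) := fun l => two _ (dA l) fun e => hLK (cj_le_cent_cj.mp
    (e.trans (cent_anti (cj_eq_of_mem_norm (hL.EOf_le_normalizer (dE l))).le)))
  have hD : Z ⊓ 𝐍(K) ≤ 𝐂(K) := cent_of_perf h.qs.perfect ((le_inf (comm_le_right inf_le_right)
    ((commutator_mono inf_le_left le_rfl).trans (comm_le_left (hE.trans hEZ)))).trans
    ((h.qs.subn_dichotomy (Subn.of_normal inf_le_left (le_normalizer_inf le_normalizer
      (hE.trans hEZ)))).resolve_right fun e => hLK (e.ge.trans (inf_le_right.trans inf_le_right))))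
  refine absurd (cent_comm.mp (cent_of_perf h.qs.perfect (commutator_le.mpr fun a ha k hk => ?_))) hK
  obtain ⟨l, hl, z, hz, e⟩ := (mem_sup_of_le_normalizer_right (hL.le_EOf.trans hEZ)).mp
    (hL.EOf_le_sup_centralizer (hE hk))
  obtain ⟨c, hc, e'⟩ := d2 ⟨l, hl⟩
  have e1 : k = δ ⟨l, hl⟩ * (c⁻¹ * z) := by rw [e', ← e]; group
  have e2 : c⁻¹ * z ∈ 𝐂(K) := hD <| mem_inf.mpr ⟨mul_mem (inv_mem (hL'Z hc)) hz, by
    have := mul_mem (inv_mem (dK ⟨l, hl⟩)) (le_normalizer hk)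
    rwa [e1, inv_mul_cancel_left] at this⟩
  have e3 : a * δ ⟨l, hl⟩ = δ ⟨l, hl⟩ * a := d1 _ a ha
  have e4 : ⁅a, k⁆ = δ ⟨l, hl⟩ * (a * (c⁻¹ * z) * a⁻¹ * (c⁻¹ * z)⁻¹) * (δ ⟨l, hl⟩)⁻¹ := by
    rw [e1, commutatorElement_def, ← mul_assoc a, e3]; group
  rw [e4]
  exact conj_mem_of_mem_normalizer (le_normalizer_centralizer le_rfl (dK _)) (mul_mem
    (conj_mem_of_mem_normalizer (le_normalizer_centralizer hRK ha) e2) (inv_mem e2))

theorem tri (H : HHS.{u} r) : Comp (G ⊓ 𝐂(zpowers ρ)) K ∨ Comp G K ∨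
    ∃ L, Comp G L ∧ zpowers ρ ≤ 𝐍(L) ∧ K ≤ L := by
  by_cases hK : K ≤ 𝐂(zpowers ρ)
  · exact .inl (h.comp_cent hK)
  have hE := h.le_E H hK
  obtain ⟨L, hL, hLK⟩ : ∃ L, Comp G L ∧ ¬ K ≤ 𝐂(L) := by
    by_contra! e
    exact h.qs.not_le_centralizer (hE.trans (EOf_le_iff.mpr fun L hL => cent_comm.mp (e L hL)))
  by_cases hρ : ρ ∈ 𝐍(L)
  · exact .inr (.inr ⟨L, hL, zpowers_le.mpr hρ, (h.key H hK hL.le ((ncl_le' hE
      (le_normalizer_EOf h.AG)).trans hL.EOf_le_normalizer) (zpowers_le.mpr hρ)).resolve_right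
        fun e => hLK (cent_comm.mp e)⟩)
  · exact .inr (.inl (h.cyc H hK hL hLK hρ ▸ hL))

end LC

theorem layer_le (H : HHS.{u} r) (h1 : ρ ^ r = 1) (h2 : ρ ∈ 𝐍(G)) (h3 : ¬ r ∣ Nat.card G)
    {X : Subgroup Γ} (hX : X ≤ G) (hn : zpowers ρ ⊔ (G ⊓ 𝐂(zpowers ρ)) ≤ 𝐍(X))
    (he : ⁅X, zpowers ρ⁆ = X) : EOf X ≤ EOf G := EOf_le_iff.mpr fun K hK => by
  obtain ⟨x, hx, hc⟩ : ∃ x ∈ X, ¬ cj(x, K) ≤ 𝐂(zpowers ρ) := by
    by_contra! e
    have a : zpowers ρ ≤ 𝐂(ncl X K) := cent_comm.mp (ncl_le e)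
    exact hK.qs.not_le_centralizer (hK.le.trans (he.ge.trans (((commutator_mono le_rfl a).trans
      (comm_le_right (le_normalizer_centralizer norm_ncl))).trans (cent_anti le_ncl))))
  have hK' := hK.conj (le_normalizer hx)
  have := LC.le_E ⟨h1, h2, h3, hK'.le.trans hX, hK'.qs, rfl, fun g hg e => comm_eq_bot_iff.mpr
    (hK'.le_centralizer_of_ne (hK'.conj (hn hg)) e.symm)⟩ H hc
  rw [← cj_inv_cj K x]
  exact cj_le_of_le this (le_normalizer_EOf le_normalizer (inv_mem (hX hx)))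

theorem exists_gen {R : Subgroup Γ} (hR : Nat.card R = r) : ∃ ρ, zpowers ρ = R ∧ ρ ^ r = 1 := by
  obtain ⟨⟨x, hx⟩, e⟩ := exists_prime_orderOf_dvd_card' (G := R) r hR.symm.dvd
  replace e : orderOf x = r := (orderOf_coe (⟨x, hx⟩ : R)).trans e
  exact ⟨x, zpowers_eq_of_card_prime (hR ▸ hr.out) hx fun e' => hr.out.ne_one (by
    rw [← e, e', orderOf_one]), e ▸ pow_orderOf_eq_one x⟩

end Cfsg.Agent.Lib.Fl
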