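/- Coprime automorphisms of prime order: the two layer theorems, given the linear input. -/
import Cfsg.Agent.Lib.Fl.Red2

set_option autoImplicit false

namespace Cfsg.Agent.Lib.Fl

open Subgroup Cfsg.Agent.Lib.Core Cfsg.Agent.Lib.Glaub Cfsg.Agent.Lib.ZJ Cfsg.Agent.FT
open scoped commutatorElement

universe u

theorem tri_of_hhs {X : Type u} [Group X] [Finite X] (G R : Subgroup X) (r : ℕ) [Fact r.Prime] (H : HHS.{u} r) (hR : Nat.card ↥R = r) (hcop : (Nat.card ↥G).Coprime r) (hnorm : R ≤ Subgroup.normalizer (G : Set X)) (K : Subgroup X) (hKG : K ≤ G) (hKq : Cfsg.IsQuasisimple ↥K) (hcomm : ∀ g ∈ R ⊔ (G ⊓ Subgroup.centralizer (R : Set X)), K.map (MulAut.conj g).toMonoidHom ≠ K → ⁅K, K.map (MulAut.conj g).toMonoidHom⁆ = ⊥) : (K ≤ G ⊓ Subgroup.centralizer (R : Set X) ∧ Cfsg.IsComponent (K.subgroupOf (G ⊓ Subgroup.centralizer (R : Set X)))) ∨ Cfsg.IsComponent (K.subgroupOf G) ∨ ∃ L :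 Subgroup X, L ≤ G ∧ Cfsg.IsComponent (L.subgroupOf G) ∧ (∀ a ∈ R, L.map (MulAut.conj a).toMonoidHom = L) ∧ K ≤ L := by
  obtain ⟨ρ, rfl, h1⟩ := exists_gen hR
  rcases LC.tri ⟨h1, hnorm (mem_zpowers ρ),
    (Nat.Prime.coprime_iff_not_dvd Fact.out).mp hcop.symm, hKG, qs_iff.mpr hKq, rfl, hcomm⟩ H with
    h | h | ⟨L, h, h2, h3⟩
  · exact .inl ⟨h.le, (comp_iff_isComponent_subgroupOf h.le).mp h⟩
  · exact .inr (.inl ((comp_iff_isComponent_subgroupOf h.le).mp h))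
  · exact .inr (.inr ⟨L, h.le, (comp_iff_isComponent_subgroupOf h.le).mp h,
      fun a ha => cj_eq_iff.mpr (h2 ha), h3⟩)

theorem layer_of_hhs {X : Type u} [Group X] [Finite X] (G R : Subgroup X) (r : ℕ) [Fact r.Prime] (H' : HHS.{u} r) (hR : Nat.card ↥R = r) (hcop : (Nat.card ↥G).Coprime r) (hnorm : R ≤ Subgroup.normalizer (G : Set X)) (H : Subgroup X) (hHG : H ≤ G) (hHinv : R ⊔ (G ⊓ Subgroup.centralizer (R : Set X)) ≤ Subgroup.normalizer (H : Set X)) (hHR : ⁅H, R⁆ = H) : (Cfsg.layer ↥H).map H.subtype ≤ (Cfsg.layer ↥G).map G.subtype := by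
  obtain ⟨ρ, rfl, h1⟩ := exists_gen hR
  exact layer_le H' h1 (hnorm (mem_zpowers ρ))
    ((Nat.Prime.coprime_iff_not_dvd Fact.out).mp hcop.symm) hHG hHinv hHR

end Cfsg.Agent.Lib.Fl
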